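import Cfsg.Agent.Lib.Recog.J1Unique.Main
import Cfsg.Agent.S0448
import Cfsg.Agent.Lib.Recog.JankoOneCentralizer
import Cfsg.Agent.Lib.Recog.JankoOneSimple

/-!
Owner: helper29. Janko's first group recognised by the centraliser of an involution.
-/

set_option autoImplicit false

namespace CfsgLib.Recog.J1Unique

open Subgroup CfsgLib.Recog.J1Order

/-- An involution in a group with abelian Sylow `2`-subgroups is central in a Sylow `2`-subgroup. -/
theorem two_central {G : Type*} [Group G] [Finite G] (S : Sylow 2 G)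
    (hS : ∀ a ∈ (S : Subgroup G), ∀ b ∈ (S : Subgroup G), a * b = b * a) (t : G) (ht : orderOf t = 2) :
    Cfsg.IsTwoCentralInvolution t := by
  have : Fact (Nat.Prime 2) := ⟨Nat.prime_two⟩
  obtain ⟨Q, hQ⟩ := (IsPGroup.of_card (n := 1) (by rw [Nat.card_zpowers, ht, pow_one]) :
    IsPGroup 2 (zpowers t)).exists_le_sylow
  obtain ⟨g, hg⟩ := MulAction.exists_smul_eq G S Q
  refine ⟨ht, Q, hQ (mem_zpowers t), fun x hx => ?_⟩
  have key : ∀ z ∈ (Q : Subgroup G), g⁻¹ * z * g ∈ (S : Subgroup G) := by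
    intro z hz
    rw [← hg, Sylow.coe_subgroup_smul, Subgroup.mem_pointwise_smul_iff_inv_smul_mem] at hz
    simpa [MulAut.smul_def, MulAut.conj_inv_apply] using hz
  have h := hS _ (key x hx) _ (key t (hQ (mem_zpowers t)))
  calc x * t = g * ((g⁻¹ * x * g) * (g⁻¹ * t * g)) * g⁻¹ := by group
    _ = t * x := by rw [h]; group

/-- Uniqueness of the group with the given centraliser. -/
theorem unique {G H : Type*} [Group G] [Finite G] [IsSimpleGroup G] [Group H] [Finite H] [IsSimpleGroup H]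
    (t : G) (u : H) (ht : Cfsg.IsTwoCentralInvolution t) (hu : Cfsg.IsTwoCentralInvolution u)
    (e : centralizer ({t} : Set G) ≃* Mdl) (f : centralizer ({u} : Set H) ≃* Mdl) : Nonempty (G ≃* H) :=
  nonempty_iso (Cfsg.Agent.S0448.result t ht e).2 t ht.1 (fusion t ht.1 ht.2 e).2.1 e
    (Cfsg.Agent.S0448.result u hu f).2 u hu.1 (fusion u hu.1 hu.2 f).2.1 f

/-- Recognition of the matrix group. -/
theorem iso_J1 {G : Type*} [Group G] [Finite G] [IsSimpleGroup G] (t : G) (ht : Cfsg.IsTwoCentralInvolution t)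
    (e : centralizer ({t} : Set G) ≃* Mdl) : Nonempty (G ≃* Cfsg.Spor.J1) := by
  have hc : Nat.card CfsgLib.Recog.JankoOne.G = 175560 := CfsgLib.Recog.JankoOne.card_eq
  have : Finite CfsgLib.Recog.JankoOne.G := Nat.finite_of_card_ne_zero (by omega)
  have := CfsgLib.Recog.JankoOne.isSimpleGroup
  obtain ⟨u, hu, ⟨f⟩⟩ := CfsgLib.Recog.JankoOne.centralizer_iso
  obtain ⟨P, hP, hP2⟩ := CfsgLib.Recog.JankoOne.exists_eight
  have hab : ∀ a ∈ P, ∀ b ∈ P, a * b = b * a := fun a ha b hb => by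
    have h : ∀ z ∈ P, z⁻¹ = z := fun z hz => inv_eq_of_mul_eq_one_right (by rw [← pow_two]; exact hP2 z hz)
    calc a * b = (a * b)⁻¹ := (h _ (mul_mem ha hb)).symm
      _ = b * a := by rw [mul_inv_rev, h a ha, h b hb]
  have : Fact (Nat.Prime 2) := ⟨Nat.prime_two⟩
  obtain ⟨Q, hQ⟩ := (IsPGroup.of_card (n := 3) (by rw [hP]; norm_num) : IsPGroup 2 P).exists_le_sylow
  have hPQ : P = (Q : Subgroup CfsgLib.Recog.JankoOne.G) := by
    refine eq_of_le_of_card_ge hQ ?_
    obtain ⟨n, hn⟩ := IsPGroup.iff_card.1 Q.isPGroup'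
    rw [hP, hn, show (8 : ℕ) = 2 ^ 3 from rfl]
    refine Nat.pow_le_pow_right (by norm_num) ?_
    by_contra h4
    have h16 : 16 ∣ Nat.card Q := by
      rw [hn, show (16 : ℕ) = 2 ^ 4 from rfl]; exact pow_dvd_pow 2 (by omega)
    have h := h16.trans (Subgroup.card_subgroup_dvd_card (Q : Subgroup CfsgLib.Recog.JankoOne.G))
    rw [hc] at h
    norm_num at h
  exact unique t u ht (two_central Q (hPQ ▸ hab) u hu) e f

end CfsgLib.Recog.J1Unique
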