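import Cfsg.Agent.Lib.Recog.J1Unique.Setup

/-!
Owner: helper29. Every group with the local data of `J₁` has a marking: an element of order seven normalising the
Sylow `2`-subgroup, normalised by an element of order three.
-/

set_option autoImplicit false
set_option maxRecDepth 100000

namespace CfsgLib.Recog.J1Unique

open Subgroup CfsgLib.Recog.J1Order

variable {G : Type*} [Group G] [Finite G]

theorem not_three {n : ℕ} (h : n ∣ 24) (hm : n ≡ 1 [MOD 7]) : ¬ 3 ∣ n := by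
  have key : ∀ n < 25, n ∣ 24 → n % 7 = 1 → ¬ 3 ∣ n := by decide
  exact key n (Nat.lt_succ_of_le (Nat.le_of_dvd (by norm_num) h)) h hm

theorem pA_ne : ((1, pA) : Mdl) ≠ 1 := by decide +kernel

theorem cube_one {k : ℕ} (hk : k < 7) (h1 : k ≠ 1) (h : k ^ 3 % 7 = 1 % 7) : k = 2 ∨ k = 4 := by
  have key : ∀ k < 7, k ≠ 1 → k ^ 3 % 7 = 1 % 7 → k = 2 ∨ k = 4 := by decide
  exact key k hk h1 h

set_option maxHeartbeats 2000000 in
theorem exists_setup (hG : Nat.card G = 175560) (t : G) (ht : orderOf t = 2)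
    (hinv : ∀ u : G, orderOf u = 2 → IsConj t u) (e : centralizer ({t} : Set G) ≃* Mdl) :
    ∃ D : Setup G, D.φ mt = t := by
  classical
  set φ : Mdl →* G := (centralizer ({t} : Set G)).subtype.comp e.symm.toMonoidHom with hφ
  have hφi : Function.Injective φ := Subtype.val_injective.comp e.symm.injective
  have hφt : φ mt = t := by
    show ((e.symm mt : centralizer ({t} : Set G)) : G) = t
    rw [show mt = e ⟨t, mem_centralizer_singleton_iff.2 rfl⟩ from (e_apply_t t ht e).symm, e.symm_apply_apply]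
  have hrange : ∀ g : G, g * t = t * g → ∃ m, φ m = g := fun g hg =>
    ⟨e ⟨g, mem_centralizer_singleton_iff.2 hg⟩,
      congrArg Subtype.val (e.symm_apply_apply ⟨g, mem_centralizer_singleton_iff.2 hg⟩)⟩
  have hre : φ.range = centralizer ({φ mt} : Set G) := by
    ext g
    rw [hφt, mem_centralizer_singleton_iff, MonoidHom.mem_range]
    refine ⟨?_, hrange g⟩
    rintro ⟨m, rfl⟩
    exact mem_centralizer_singleton_iff.1 (e.symm m).2
  obtain ⟨hab, hsq, hfix, hn1, hn2, h8, h24, -⟩ := vm_facts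
  set W : Subgroup Mdl := centralizer ({((1, pA) : Mdl)} : Set Mdl) with hW
  set S : Subgroup G := W.map φ with hS
  have hW8 : Nat.card W = 8 := by
    rw [← h8, ← Nat.card_eq_finsetCard]
    exact Nat.card_congr (Equiv.subtypeEquivRight fun a => by simp [hW, mem_centralizer_singleton_iff])
  have hS8 : Nat.card S = 8 := by rw [← hW8]; exact Nat.card_congr (W.equivMapOfInjective φ hφi).symm.toEquiv
  have hmemS : ∀ m : Mdl, φ m ∈ S ↔ m * (1, pA) = (1, pA) * m := fun m => by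
    rw [hS, mem_map_iff_mem hφi, hW, mem_centralizer_singleton_iff]
  have hSr : ∀ g ∈ S, ∃ m : Mdl, m * (1, pA) = (1, pA) * m ∧ φ m = g := fun g hg => by
    obtain ⟨m, hm, rfl⟩ := hg
    exact ⟨m, mem_centralizer_singleton_iff.1 hm, rfl⟩
  have hSsq : ∀ g ∈ S, g * g = 1 := fun g hg => by
    obtain ⟨m, hm, rfl⟩ := hSr g hg
    rw [← map_mul, hsq m hm, map_one]
  have hScomm : ∀ g ∈ S, ∀ h ∈ S, g * h = h * g := fun g hg h hh => by
    obtain ⟨a, ha, rfl⟩ := hSr g hg
    obtain ⟨b, hb, rfl⟩ := hSr h hh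
    rw [← map_mul, hab a b ha hb, map_mul]
  have htS : t ∈ S := by rw [← hφt, hmemS]; exact (central_mt _).symm
  -- `S` is a Sylow subgroup
  have : Fact (Nat.Prime 2) := ⟨Nat.prime_two⟩
  obtain ⟨P, hP⟩ := (IsPGroup.of_card (n := 3) (by rw [hS8]; norm_num) : IsPGroup 2 S).exists_le_sylow
  have hPS : (P : Subgroup G) = S := by
    refine (eq_of_le_of_card_ge hP ?_).symm
    obtain ⟨n, hn⟩ := IsPGroup.iff_card.1 P.isPGroup'
    rw [hS8]
    by_contra hlt
    have h16 : 16 ∣ Nat.card P := by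
      rw [hn, show (16 : ℕ) = 2 ^ 4 from rfl]
      refine pow_dvd_pow 2 ?_
      by_contra h4
      have := Nat.pow_le_pow_right (show 0 < 2 by norm_num) (show n ≤ 3 by omega)
      omega
    have h16' := h16.trans (Subgroup.card_subgroup_dvd_card (P : Subgroup G))
    rw [hG] at h16'
    norm_num at h16'
  set N : Subgroup G := normalizer (S : Set G) with hN
  have hNS : ∀ n ∈ N, ∀ g ∈ S, n * g * n⁻¹ ∈ S := fun n hn g hg => (mem_normalizer_iff.1 hn g).1 hg
  -- the orbit of `t` consists of the seven involutions of `S`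
  letI : MulAction N G := MulAction.compHom G (MulAut.conj.comp N.subtype)
  have hsmul : ∀ (n : N) (g : G), n • g = (n : G) * g * (n : G)⁻¹ := fun n g => rfl
  have horb : MulAction.orbit N t = {g : G | g ∈ S ∧ g ≠ 1} := by
    ext g
    constructor
    · rintro ⟨n, rfl⟩
      refine ⟨hNS n n.2 t htS, fun h => ?_⟩
      have : (n : G) * t * (n : G)⁻¹ = 1 := h
      rw [conj_eq_one_iff] at this
      rw [this, orderOf_one] at ht
      norm_num at ht
    · rintro ⟨hgS, hg1⟩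
      have hgo : orderOf g = 2 := orderOf_eq_prime (by rw [pow_two]; exact hSsq g hgS) hg1
      obtain ⟨c, hc⟩ := isConj_iff.1 (hinv g hgo)
      have hcen : ∀ h ∈ S, h ∈ centralizer ((P : Subgroup G) : Set G) := fun h hh =>
        mem_centralizer_iff.2 fun k hk => hScomm k (hPS ▸ hk) h hh
      obtain ⟨n, hn, hne⟩ := P.conj_eq_normalizer_conj_of_mem_centralizer t c⁻¹ (hcen t htS)
        (by rw [inv_inv, hc]; exact hcen g hgS)
      have hn' : n ∈ N := by rw [hN, ← hPS]; exact hn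
      refine ⟨⟨n⁻¹, inv_mem hn'⟩, ?_⟩
      show n⁻¹ * t * n⁻¹⁻¹ = g
      rw [inv_inv, ← hne, inv_inv, hc]
  have horb7 : Nat.card (MulAction.orbit N t) = 7 := by
    rw [horb]
    have h : Nat.card {g : G | g ∈ S ∧ g ≠ 1} = Nat.card {g : S // g ≠ 1} :=
      Nat.card_congr ⟨fun g => ⟨⟨g.1, g.2.1⟩, fun h => g.2.2 (congrArg Subtype.val h)⟩,
        fun g => ⟨g.1.1, g.1.2, fun h => g.2 (Subtype.ext h)⟩, fun _ => rfl, fun _ => rfl⟩
    rw [h]
    have := Fintype.ofFinite S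
    rw [Nat.card_eq_fintype_card, Fintype.card_subtype_compl, Fintype.card_subtype_eq, ← Nat.card_eq_fintype_card,
      hS8]
  -- the stabiliser
  have hstab : Nat.card (MulAction.stabilizer N t) = 24 := by
    rw [← h24, ← Nat.card_eq_finsetCard]
    have hmemN : ∀ m : Mdl, (∀ a : Mdl, a * (1, pA) = (1, pA) * a →
        (m * a * m⁻¹) * (1, pA) = (1, pA) * (m * a * m⁻¹)) → φ m ∈ N := fun m hm =>
      mem_normalizer_fintype fun g hg => by
        obtain ⟨a, ha, rfl⟩ := hSr g hg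
        rw [← map_inv, ← map_mul, ← map_mul]
        exact (hmemS _).2 (hm a ha)
    symm
    refine Nat.card_congr (Equiv.ofBijective (fun m =>
      ⟨⟨φ m.1, hmemN _ (Finset.mem_filter.1 m.2).2⟩, ?_⟩) ⟨?_, ?_⟩)
    · show φ m.1 * t * (φ m.1)⁻¹ = t
      rw [← hφt, ← map_inv, ← map_mul, ← map_mul, central_mt, mul_inv_cancel_right]
    · intro a b h
      exact Subtype.ext (hφi (congrArg (fun z : MulAction.stabilizer N t => ((z : N) : G)) h))
    · rintro ⟨⟨n, hn⟩, hst⟩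
      have hst' : n * t * n⁻¹ = t := hst
      obtain ⟨m, rfl⟩ := hrange n (mul_inv_eq_iff_eq_mul.1 hst')
      refine ⟨⟨m, Finset.mem_filter.2 ⟨Finset.mem_univ _, fun a ha => ?_⟩⟩, rfl⟩
      rw [← hmemS, map_mul, map_mul, map_inv]
      exact hNS _ hn _ ((hmemS a).2 ha)
  have hN168 : Nat.card N = 168 := by
    rw [Nat.card_congr (MulAction.orbitProdStabilizerEquivGroup N t).symm, Nat.card_prod, horb7, hstab]
  -- the element of order three normalises a Sylow `7`-subgroup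
  have hsn : φ (trA.word sW) ∈ N := mem_normalizer_fintype fun g hg => by
    obtain ⟨a, ha, rfl⟩ := hSr g hg
    rw [← map_inv, ← map_mul, ← map_mul]
    exact (hmemS _).2 (hn1 a ha)
  set sN : N := ⟨φ (trA.word sW), hsn⟩ with hsN
  have hs3 : orderOf sN = 3 := by
    have : Fact (Nat.Prime 3) := ⟨Nat.prime_three⟩
    refine orderOf_eq_prime (Subtype.ext ?_) fun h => ?_
    · show φ (trA.word sW) ^ 3 = 1
      rw [← map_pow, good_A.s_order.1, map_one]
    · refine good_A.s_order.2 (hφi ?_)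
      rw [map_one]
      exact congrArg Subtype.val h
  have : Fact (Nat.Prime 7) := ⟨by norm_num⟩
  have : Fact (Nat.Prime 3) := ⟨Nat.prime_three⟩
  have hP7 : ∀ Q : Sylow 7 N, Nat.card Q = 7 := fun Q => by
    obtain ⟨k, hk⟩ := IsPGroup.iff_card.1 Q.isPGroup'
    have hd : 7 ^ k ∣ 168 := by rw [← hk, ← hN168]; exact Subgroup.card_subgroup_dvd_card (Q : Subgroup N)
    have h7 := Q.dvd_card_of_dvd_card (by rw [hN168]; norm_num)
    rw [hk] at h7 ⊢
    rcases k with _ | _ | k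
    · norm_num at h7
    · norm_num
    · exact absurd ((pow_dvd_pow 7 (show 2 ≤ k + 2 by omega)).trans hd) (by norm_num)
  obtain ⟨Q₀⟩ := (Sylow.nonempty : Nonempty (Sylow 7 N))
  have hn7 : ¬ 3 ∣ Nat.card (Sylow 7 N) := by
    have h := Q₀.card_dvd_index
    have hi := (Q₀ : Subgroup N).card_mul_index
    rw [hP7 Q₀, hN168] at hi
    have hi' : (Q₀ : Subgroup N).index = 24 := by omega
    have hm := card_sylow_modEq_one 7 N
    rw [hi'] at h
    exact not_three h hm
  have hpg : IsPGroup 3 (zpowers sN) := IsPGroup.of_card (n := 1) (by rw [Nat.card_zpowers, hs3, pow_one])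
  obtain ⟨Q, hQ⟩ := hpg.nonempty_fixed_point_of_prime_not_dvd_card (Sylow 7 N) hn7
  have hQn : sN ∈ normalizer ((Q : Subgroup N) : Set N) :=
    Sylow.smul_eq_iff_mem_normalizer.1 (hQ ⟨sN, mem_zpowers sN⟩)
  obtain ⟨g0, hg0⟩ := exists_prime_orderOf_dvd_card' (G := Q) 7 (by rw [hP7 Q])
  have hg0o : orderOf ((g0 : N) : G) = 7 := by rwa [Subgroup.orderOf_coe, Subgroup.orderOf_coe]
  have hQz : (Q : Subgroup N) = zpowers (g0 : N) :=
    (eq_of_le_of_card_ge (zpowers_le.2 g0.2) (by rw [Nat.card_zpowers, Subgroup.orderOf_coe, hg0, hP7 Q])).symm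
  have hconj : sN * (g0 : N) * sN⁻¹ ∈ zpowers (g0 : N) :=
    hQz ▸ (mem_normalizer_iff.1 hQn (g0 : N)).1 g0.2
  rw [← mem_powers_iff_mem_zpowers, Submonoid.mem_powers_iff] at hconj
  obtain ⟨k0, hk0⟩ := hconj
  set x0 : G := ((g0 : N) : G) with hx0
  set s : G := φ (trA.word sW) with hs
  obtain ⟨k, hk7, hk⟩ : ∃ k : ℕ, k < 7 ∧ s * x0 * s⁻¹ = x0 ^ k := by
    refine ⟨k0 % 7, Nat.mod_lt _ (by norm_num), ?_⟩
    have h : x0 ^ k0 = s * x0 * s⁻¹ := congrArg Subtype.val hk0
    rw [← h, ← hg0o, pow_mod_orderOf]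
  have hsT : s * t * s⁻¹ = t := by
    rw [hs, ← hφt, ← map_inv, ← map_mul, ← map_mul, central_mt, mul_inv_cancel_right]
  have hx07 : x0 ^ 7 = 1 := hg0o ▸ pow_orderOf_eq_one x0
  -- no power of `x0` other than one centralises `t`
  have hnc : ∀ i : ℕ, x0 ^ i * t = t * x0 ^ i → 7 ∣ i := fun i hi => by
    obtain ⟨m, hm⟩ := hrange _ hi
    rw [← hg0o]
    refine orderOf_dvd_of_pow_eq_one ?_
    have h1 : m ^ 7 = 1 := hφi (by
      rw [map_pow, hm, map_one, ← pow_mul, mul_comm, pow_mul, hx07, one_pow])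
    have h2 := pow_gcd_eq_one.2 ⟨h1, pow_card_eq_one' (x := m)⟩
    rw [card_model, show Nat.gcd 7 120 = 1 from rfl, pow_one] at h2
    rw [← hm, h2, map_one]
  have hxS : ∀ i : ℕ, x0 ^ i * t * (x0 ^ i)⁻¹ ∈ S := fun i =>
    hNS _ (pow_mem (g0 : N).2 i) t htS
  have hk13 : k = 2 ∨ k = 4 := by
    have hpow : ∀ n : ℕ, s ^ n * x0 * (s ^ n)⁻¹ = x0 ^ (k ^ n) := by
      intro n
      induction n with
      | zero => simp
      | succ n ih =>
        calc s ^ (n + 1) * x0 * (s ^ (n + 1))⁻¹ = s * (s ^ n * x0 * (s ^ n)⁻¹) * s⁻¹ := by rw [pow_succ']; group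
          _ = (s * x0 * s⁻¹) ^ (k ^ n) := by rw [ih, conj_pow]
          _ = x0 ^ k ^ (n + 1) := by rw [hk, ← pow_mul, ← pow_succ']
    have h3 : s ^ 3 = 1 := by rw [hs, ← map_pow, good_A.s_order.1, map_one]
    have h := hpow 3
    rw [h3, one_mul, inv_one, mul_one] at h
    have hmod : k ^ 3 % 7 = 1 % 7 := by
      have h' : x0 ^ (1 : ℕ) = x0 ^ k ^ 3 := by rw [pow_one]; exact h
      rw [pow_eq_pow_iff_modEq, hg0o] at h'
      exact h'.symm
    have hk1 : k ≠ 1 := by
      rintro rfl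
      rw [pow_one] at hk
      have hfx : s * (x0 ^ 1 * t * (x0 ^ 1)⁻¹) * s⁻¹ = x0 ^ 1 * t * (x0 ^ 1)⁻¹ := by
        rw [pow_one]
        calc s * (x0 * t * x0⁻¹) * s⁻¹ = (s * x0 * s⁻¹) * (s * t * s⁻¹) * (s * x0 * s⁻¹)⁻¹ := by group
          _ = _ := by rw [hk, hsT]
      obtain ⟨m, hm, hmx⟩ := hSr _ (hxS 1)
      rw [← hmx, hs, ← map_inv, ← map_mul, ← map_mul, hφi.eq_iff, mul_inv_eq_iff_eq_mul] at hfx
      rcases hfix m hm hfx.symm with rfl | rfl
      · rw [map_one] at hmx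
        have h1 := conj_eq_one_iff.1 hmx.symm
        rw [h1, orderOf_one] at ht
        norm_num at ht
      · rw [hφt] at hmx
        have := hnc 1 (mul_inv_eq_iff_eq_mul.1 hmx.symm)
        norm_num at this
    exact cube_one hk7 hk1 hmod
  obtain ⟨j, hj⟩ : ∃ j : Fin 7, x0 ^ j.val * t * (x0 ^ j.val)⁻¹ = φ (1, pA) := by
    have hsne : ∀ i : ℕ, x0 ^ i * t * (x0 ^ i)⁻¹ ≠ 1 := fun i h => by
      rw [conj_eq_one_iff] at h
      rw [h, orderOf_one] at ht
      norm_num at ht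
    let f : Fin 7 → MulAction.orbit N t := fun i =>
      ⟨x0 ^ i.val * t * (x0 ^ i.val)⁻¹, by rw [horb]; exact ⟨hxS _, hsne _⟩⟩
    have hf : Function.Injective f := by
      intro a b hab'
      have hab'' : x0 ^ a.val * t * (x0 ^ a.val)⁻¹ = x0 ^ b.val * t * (x0 ^ b.val)⁻¹ := congrArg Subtype.val hab'
      have key : ∀ a b : ℕ, a ≤ b → b < 7 → x0 ^ a * t * (x0 ^ a)⁻¹ = x0 ^ b * t * (x0 ^ b)⁻¹ → a = b := by
        intro a b hle hb h
        obtain ⟨d, rfl⟩ := Nat.exists_eq_add_of_le hle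
        have hc : x0 ^ d * t * (x0 ^ d)⁻¹ = t := by
          refine (MulAut.conj (x0 ^ a)).injective ?_
          simp only [MulAut.conj_apply]
          rw [h, pow_add]
          group
        have := hnc d (mul_inv_eq_iff_eq_mul.1 hc)
        omega
      rcases le_total a.val b.val with h | h
      · exact Fin.ext (key _ _ h b.2 hab'')
      · exact Fin.ext (key _ _ h a.2 hab''.symm).symm
    have hcard : Nat.card (Fin 7) = Nat.card (MulAction.orbit N t) := by rw [horb7, Nat.card_fin]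
    have hbij := (Nat.bijective_iff_injective_and_card f).2 ⟨hf, hcard⟩
    obtain ⟨i, hi⟩ := hbij.2 ⟨φ (1, pA), by
      rw [horb]
      exact ⟨(hmemS _).2 rfl, fun h => pA_ne (hφi (h.trans (map_one φ).symm))⟩⟩
    exact ⟨i, congrArg Subtype.val hi⟩
  set x : G := x0 ^ j.val with hx
  have hx7 : x ^ 7 = 1 := by
    rw [hx, ← pow_mul, mul_comm, pow_mul, hx07, one_pow]
  have hsx : s * x * s⁻¹ = x ^ k := by
    rw [hx, ← conj_pow, hk, ← pow_mul, ← pow_mul, mul_comm]
  rcases hk13 with rfl | rfl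
  · exact ⟨⟨trA, good_A, φ, hφi, hre, x, hx7, by rw [show trA.lett 0 = mt from rfl, hφt]; exact hj, hsx⟩, hφt⟩
  · have hyy : s * x * s⁻¹ * (s * x * s⁻¹) = x := by
      rw [hsx, ← pow_add, show 4 + 4 = 7 + 1 from rfl, pow_succ, hx7, one_mul]
    refine ⟨⟨trB, good_B, φ, hφi, hre, s * x * s⁻¹, ?_, ?_, ?_⟩, hφt⟩
    · rw [conj_pow, hx7, mul_one, mul_inv_cancel]
    · show s * x * s⁻¹ * φ mt * (s * x * s⁻¹)⁻¹ = φ (1, qA)
      rw [hφt]
      calc s * x * s⁻¹ * t * (s * x * s⁻¹)⁻¹ = s * x * (s⁻¹ * (s * t * s⁻¹) * s) * x⁻¹ * s⁻¹ := by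
            rw [hsT]; group
        _ = s * (x * t * x⁻¹) * s⁻¹ := by group
        _ = φ (trA.word sW * trA.lett 1 * (trA.word sW)⁻¹) := by
            rw [map_mul, map_mul, map_inv, hx, hj]; rfl
        _ = _ := by rw [good_A.s_p]; rfl
    · rw [sB, map_inv, inv_inv, pow_two, hyy]
      show s⁻¹ * (s * x * s⁻¹) * s = x
      group

end CfsgLib.Recog.J1Unique
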