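import Cfsg.Agent.Lib.Recog.J1Unique.Model
import Cfsg.Agent.Lib.Orders175560.Main

/-!
Owner: helper29. In a simple group of order `175560` with centraliser `Z₂ × A₅` of an involution the centraliser of an
element of order three has order thirty.
-/

set_option autoImplicit false
set_option maxRecDepth 100000

namespace CfsgLib.Recog.J1Unique

open Subgroup CfsgLib.Recog.J1Order CfsgLib.Orders175560

/-- The constraints on the centraliser orders coming from the centraliser of an involution. -/
def twoPart (a : Row) : Bool := if a.1 == 3 || a.1 == 5 then a.2.2.1 % 4 == 2 else a.2.2.1 % 2 == 1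

theorem search_unique :
    ((search 175560 [19, 11, 7, 5, 3] []).all fun s =>
      !(s.all twoPart) || s.all fun a => a.1 != 3 || a.2.2.1 == 10) = true := by
  decide +kernel

variable {G : Type*} [Group G] [Finite G]

theorem twoPart_rowOf (t : G) (ht : orderOf t = 2) (hinv : ∀ u : G, orderOf u = 2 → IsConj t u)
    (e : centralizer ({t} : Set G) ≃* Mdl) {p : ℕ} [Fact p.Prime]
    (hp : p ∈ ([19, 11, 7, 5, 3] : List ℕ)) (h1 : p ∣ Nat.card G) (h2 : ¬ p * p ∣ Nat.card G) :
    twoPart (rowOf G p) = true := by
  set P := Classical.arbitrary (Sylow p G) with hP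
  have hHc : Nat.card (centralizer ({t} : Set G)) = 120 := (Nat.card_congr e.toEquiv).trans card_model
  -- the centraliser of an involution in the model
  have hcen : ∀ i : G, orderOf i = 2 → ∃ f : centralizer ({i} : Set G) →* Mdl, Function.Injective f := by
    intro i hi
    obtain ⟨g, hg⟩ := isConj_iff.1 (hinv i hi)
    have hm : ∀ y : centralizer ({i} : Set G), g⁻¹ * (y : G) * g ∈ centralizer ({t} : Set G) := by
      intro y
      have hy := mem_centralizer_singleton_iff.1 y.2
      rw [mem_centralizer_singleton_iff]
      have hty : t = g⁻¹ * i * g := by rw [← hg]; group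
      calc g⁻¹ * (y : G) * g * t = g⁻¹ * ((y : G) * i) * g := by rw [hty]; group
        _ = g⁻¹ * (i * (y : G)) * g := by rw [hy]
        _ = t * (g⁻¹ * (y : G) * g) := by rw [hty]; group
    refine ⟨e.toMonoidHom.comp
      { toFun := fun y => ⟨g⁻¹ * (y : G) * g, hm y⟩
        map_one' := Subtype.ext (by simp)
        map_mul' := fun y z => Subtype.ext (by simp [mul_assoc]) }, fun y z h => ?_⟩
    have h' := congrArg Subtype.val (e.injective h)
    exact Subtype.ext (mul_left_cancel (mul_right_cancel h'))
  obtain ⟨x, hxgen⟩ := (isCyclic_of_prime_card (card_sylow_eq_prime h1 h2 P)).exists_generator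
  have hPx : (P : Subgroup G) = zpowers (x : G) := by
    refine le_antisymm (fun y hy => ?_) (zpowers_le.2 x.2)
    obtain ⟨k, hk⟩ := mem_zpowers_iff.1 (hxgen ⟨y, hy⟩)
    exact mem_zpowers_iff.2 ⟨k, by simpa using congrArg Subtype.val hk⟩
  have hxo : orderOf (x : G) = p := by rw [← Nat.card_zpowers, ← hPx, card_sylow_eq_prime h1 h2 P]
  have hC : Nat.card (centralizer ({(x : G)} : Set G)) = p * cOf P := by
    have hxe : centralizer ((P : Subgroup G) : Set G) = centralizer ({(x : G)} : Set G) := by
      conv_lhs => rw [hPx, zpowers_eq_closure, centralizer_closure]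
    rw [← card_centralizer h1 h2 P, hxe]
  -- an involution centralising `x` forces `p ∣ 120`
  have heven : 2 ∣ cOf P → p ∣ 120 := by
    intro h
    obtain ⟨i, hi⟩ := exists_prime_orderOf_dvd_card' (G := centralizer ({(x : G)} : Set G)) 2
      (by rw [hC]; exact h.mul_left p)
    obtain ⟨f, hf⟩ := hcen (i : G) (by rwa [Subgroup.orderOf_coe])
    have hxi : (x : G) ∈ centralizer ({(i : G)} : Set G) :=
      mem_centralizer_singleton_iff.2 (mem_centralizer_singleton_iff.1 i.2).symm
    have h3 := orderOf_dvd_natCard (f ⟨x, hxi⟩)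
    rw [orderOf_injective f hf, Subgroup.orderOf_mk, hxo, card_model] at h3
    exact h3
  by_cases h35 : p = 3 ∨ p = 5
  · have hfour : ¬ 4 ∣ cOf P := by
      intro h
      obtain ⟨Q, hQ⟩ := Sylow.exists_subgroup_card_pow_prime (G := centralizer ({(x : G)} : Set G)) 2 (n := 2)
        (by rw [hC]; norm_num; exact h.mul_left p)
      obtain ⟨i, hi⟩ := exists_prime_orderOf_dvd_card' (G := Q) 2 (by rw [hQ]; norm_num)
      have hQc : ∀ a b : Q, a * b = b * a :=
        fun a b => IsPGroup.commutative_of_card_eq_prime_sq (p := 2) hQ a b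
      obtain ⟨f, hf⟩ := hcen ((i : centralizer ({(x : G)} : Set G)) : G) (by
        rwa [Subgroup.orderOf_coe, Subgroup.orderOf_coe])
      have hmem : ∀ a : Q, ((a : centralizer ({(x : G)} : Set G)) : G) ∈
          centralizer ({((i : centralizer ({(x : G)} : Set G)) : G)} : Set G) := fun a =>
        mem_centralizer_singleton_iff.2 (congrArg (fun z : Q => ((z : centralizer ({(x : G)} : Set G)) : G)) (hQc a i))
      have hxi : (x : G) ∈ centralizer ({((i : centralizer ({(x : G)} : Set G)) : G)} : Set G) :=
        mem_centralizer_singleton_iff.2 (mem_centralizer_singleton_iff.1 i.1.2).symm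
      set m := f ⟨x, hxi⟩ with hm
      have hmo : orderOf m = p := by rw [hm, orderOf_injective f hf, Subgroup.orderOf_mk, hxo]
      have hm15 : m ^ 15 = 1 := orderOf_dvd_iff_pow_eq_one.1 (by rw [hmo]; rcases h35 with h | h <;> rw [h] <;> norm_num)
      have hm1 : m ≠ 1 := fun h => by
        rw [h, orderOf_one] at hmo
        exact (Fact.out : p.Prime).one_lt.ne hmo
      classical
      have := Fintype.ofFinite Q
      have hle := small_centralizer m hm15 hm1
      have hsub : (Finset.univ.image fun a : Q => f ⟨_, hmem a⟩) ⊆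
          Finset.univ.filter fun n : Mdl => n * m = m * n ∧ n ^ 4 = 1 := by
        intro n hn
        obtain ⟨a, -, rfl⟩ := Finset.mem_image.1 hn
        refine Finset.mem_filter.2 ⟨Finset.mem_univ _, ?_, ?_⟩
        · rw [hm, ← map_mul, ← map_mul]
          exact congrArg f (Subtype.ext (mem_centralizer_singleton_iff.1 a.1.2))
        · rw [← map_pow, ← map_one f]
          refine congrArg f (Subtype.ext ?_)
          have h4 := pow_card_eq_one' (G := Q) (x := a)
          rw [hQ] at h4
          simpa using congrArg (fun z : Q => ((z : centralizer ({(x : G)} : Set G)) : G)) h4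
      have h4 : (Finset.univ.image fun a : Q => f ⟨_, hmem a⟩).card = 4 := by
        rw [Finset.card_image_of_injective _ (fun a b h => ?_), Finset.card_univ, ← Nat.card_eq_fintype_card, hQ]
        · rfl
        · exact Subtype.ext (Subtype.ext (congrArg Subtype.val (hf h) : _))
      have := Finset.card_le_card hsub
      omega
    have htwo : 2 ∣ cOf P := by
      obtain ⟨z, hz⟩ := exists_prime_orderOf_dvd_card' (G := centralizer ({t} : Set G)) p
        (by rw [hHc]; rcases h35 with h | h <;> rw [h] <;> norm_num)
      have hzo : orderOf (z : G) = p := by rwa [Subgroup.orderOf_coe]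
      obtain ⟨Q, hQ⟩ := (IsPGroup.of_card (n := 1) (by rw [Nat.card_zpowers, hzo, pow_one]) :
        IsPGroup p (zpowers (z : G))).exists_le_sylow
      have hQe : zpowers (z : G) = (Q : Subgroup G) :=
        eq_of_le_of_card_ge hQ (by rw [Nat.card_zpowers, hzo, card_sylow_eq_prime h1 h2 Q])
      have htQ : t ∈ centralizer ((Q : Subgroup G) : Set G) := by
        rw [← hQe, zpowers_eq_closure, centralizer_closure, mem_centralizer_singleton_iff]
        exact (mem_centralizer_singleton_iff.1 z.2).symm
      have h := Subgroup.orderOf_dvd_natCard _ htQ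
      rw [ht, card_centralizer h1 h2 Q] at h
      rw [cOf_congr P Q]
      exact (Nat.prime_two.dvd_mul.1 h).resolve_left (by rcases h35 with h | h <;> rw [h] <;> norm_num)
    show (if (p == 3 || p == 5) = true then cOf P % 4 == 2 else cOf P % 2 == 1) = true
    rcases h35 with rfl | rfl <;> simp <;> omega
  · have hodd : ¬ 2 ∣ cOf P := fun h => by
      have := heven h
      simp only [List.mem_cons, List.not_mem_nil, or_false] at hp
      rcases hp with rfl | rfl | rfl | rfl | rfl <;> omega
    have h3 : (p == 3 || p == 5) = false := Bool.eq_false_iff.2 fun hb => h35 (by simpa using hb)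
    show (if (p == 3 || p == 5) = true then cOf P % 4 == 2 else cOf P % 2 == 1) = true
    simp only [h3, Bool.false_eq_true, if_false, beq_iff_eq]
    omega

/-- The centraliser of a subgroup of order three has order thirty. -/
theorem card_centralizer_three [IsSimpleGroup G] (hG : Nat.card G = 175560) (t : G) (ht : orderOf t = 2)
    (hinv : ∀ u : G, orderOf u = 2 → IsConj t u) (e : centralizer ({t} : Set G) ≃* Mdl)
    {s : G} (hs : orderOf s = 3) : Nat.card (centralizer ({s} : Set G)) = 30 := by
  have hps : primesOf (Nat.card G) = [19, 11, 7, 5, 3] := by rw [hG]; decide +kernel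
  have hm : Nat.card G ∣ 175560 := by rw [hG]
  have hsr := mem_search hm (by rw [hG]; norm_num) (by rw [hG]; norm_num) [19, 11, 7, 5, 3] [] (by decide)
    (fun p hp => by rw [hps]; simpa using hp)
  rw [hG] at hsr
  simp only [List.append_nil, List.map_nil] at hsr
  have hu := search_unique
  rw [List.all_eq_true] at hu
  have h := hu _ hsr
  have hall : ((List.reverse [19, 11, 7, 5, 3]).map (rowOf G)).all twoPart = true := by
    rw [List.all_eq_true]
    intro a ha
    obtain ⟨p, hp, rfl⟩ := List.mem_map.1 ha
    rw [List.mem_reverse] at hp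
    have hp' : p ∈ primesOf (Nat.card G) := by rw [hps]; exact hp
    have := Fact.mk (isMember_primesOf hp').1
    exact twoPart_rowOf t ht hinv e hp (isMember_primesOf hp').2 (sq_not_dvd hm hp')
  rw [hall, Bool.not_true, Bool.false_or, List.all_eq_true] at h
  have h3 := h (rowOf G 3) (List.mem_map.2 ⟨3, by decide, rfl⟩)
  have : Fact (Nat.Prime 3) := ⟨Nat.prime_three⟩
  have h1 : 3 ∣ Nat.card G := by rw [hG]; norm_num
  have h2 : ¬ 3 * 3 ∣ Nat.card G := by rw [hG]; norm_num
  simp only [rowOf] at h3
  simp only [bne_self_eq_false, Bool.false_or, beq_iff_eq] at h3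
  obtain ⟨Q, hQ⟩ := (IsPGroup.of_card (n := 1) (by rw [Nat.card_zpowers, hs, pow_one]) :
    IsPGroup 3 (zpowers s)).exists_le_sylow
  have hQe : zpowers s = (Q : Subgroup G) :=
    eq_of_le_of_card_ge hQ (by rw [Nat.card_zpowers, hs, card_sylow_eq_prime h1 h2 Q])
  have hc := card_centralizer h1 h2 Q
  rw [← hQe, zpowers_eq_closure, centralizer_closure] at hc
  rw [hc, cOf_congr Q (Classical.arbitrary (Sylow 3 G)), h3]

end CfsgLib.Recog.J1Unique
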