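import Cfsg.Agent.Lib.Recog.J1Unique.Gens
import Cfsg.Agent.Lib.Recog.J1Unique.Thirty
import Cfsg.Agent.Lib.Recog.SporBound.J1Cent.Valid
import Cfsg.Agent.Lib.Recog.SporBound.J1Top.Valid
import Cfsg.Agent.Lib.Recog.SporBound.J1NoA.Valid
import Cfsg.Agent.Lib.Recog.SporBound.J1NoB.Valid
import Cfsg.Agent.Lib.Recog.SporBound.J1NoC.Valid

/-!
Owner: helper29. Two groups with the local data of `J₁` are isomorphic.
-/

set_option autoImplicit false
set_option maxRecDepth 100000
set_option synthInstance.maxSize 2000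
set_option synthInstance.maxHeartbeats 200000

namespace CfsgLib.Recog.J1Unique

open Subgroup CfsgLib.Recog.J1Order CfsgLib.Recog.SporBound

theorem five_cent : ∀ s : Mdl, s ^ 3 = 1 → s ≠ 1 → ∀ m : Mdl, m ^ 5 = 1 → m * s = s * m → m = 1 := by
  decide +kernel

/-- The word of the commutator in the surviving case. -/
def yTop : List ℕ := [1, 3] ++ [1, 2, 3, 1].flatMap Setup.sub ++ [3, 1]
/-- The word of the commutator in the first excluded case. -/
def yA : List ℕ := [1, 3] ++ [2, 3].flatMap Setup.sub ++ [3, 1]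
/-- The word of the commutator in the second excluded case. -/
def yB : List ℕ := [1, 3] ++ Setup.xW ++ Setup.xW ++ [1, 2, 3, 1, 3].flatMap Setup.sub ++
  Setup.xW.reverse ++ Setup.xW.reverse ++ [3, 1]
/-- The word of the commutator in the third excluded case. -/
def yC : List ℕ := [1, 3] ++ Setup.xW ++ Setup.xW ++ [1, 2, 3, 2, 3].flatMap Setup.sub ++
  Setup.xW.reverse ++ Setup.xW.reverse ++ [3, 1]

theorem rels_top : J1Top.cert.rels.all (fun w => (Setup.baseRels ++ [Setup.commRel yTop]).contains w) = true := by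
  decide +kernel
theorem rels_A : J1NoA.cert.rels.all (fun w => (Setup.baseRels ++ [Setup.commRel yA]).contains w) = true := by
  decide +kernel
theorem rels_B : J1NoB.cert.rels.all (fun w => (Setup.baseRels ++ [Setup.commRel yB]).contains w) = true := by
  decide +kernel
theorem rels_C : J1NoC.cert.rels.all (fun w => (Setup.baseRels ++ [Setup.commRel yC]).contains w) = true := by
  decide +kernel

namespace Setup

variable {G : Type*} [Group G] (D : Setup G)

/-- The subgroup generated by the five involutions. -/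
def gen : Subgroup G := closure {g | ∃ i ∈ [0, 1, 2, 3, 4], g = D.a i}

theorem a_mem (i : ℕ) : D.a i ∈ D.gen := by
  rcases Nat.lt_or_ge i 5 with h | h
  · exact subset_closure ⟨i, by interval_cases i <;> simp, rfl⟩
  · rw [D.a_ge h]; exact one_mem _

theorem word_mem (w : List ℕ) : (w.map D.a).prod ∈ D.gen :=
  list_prod_mem fun g hg => by
    obtain ⟨i, -, rfl⟩ := List.mem_map.1 hg
    exact D.a_mem i

theorem x_mem : D.x ∈ D.gen := D.prod_xW ▸ D.word_mem _

theorem range_le : D.φ.range ≤ D.gen := by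
  set L : Subgroup Mdl := D.gen.comap D.φ with hL
  have hlett : ∀ i, D.T.lett i ∈ L := fun i => by
    match i with
    | 0 => exact D.a_mem 0
    | 1 => exact D.a_mem 1
    | 2 => exact D.a_mem 2
    | 3 => exact D.a_mem 3
    | n + 4 => exact one_mem _
  have hword : ∀ w, D.T.word w ∈ L := fun w => list_prod_mem fun g hg => by
    obtain ⟨i, -, rfl⟩ := List.mem_map.1 hg
    exact hlett i
  have hW : centralizer ({((1, pA) : Mdl)} : Set Mdl) ≤ L := fun m hm => by
    obtain ⟨i, j, k, rfl⟩ := D.good.four m (mem_centralizer_singleton_iff.1 hm)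
    exact mul_mem (mul_mem (pow_mem (hlett 0) _) (pow_mem (hlett 1) _)) (pow_mem (hlett 2) _)
  have h8 : 8 ∣ Nat.card L := by
    refine (dvd_of_eq ?_).trans (card_dvd_of_le hW)
    rw [← vm_facts.2.2.2.2.2.1, ← Nat.card_eq_finsetCard]
    exact Nat.card_congr (Equiv.subtypeEquivRight fun a => by simp [mem_centralizer_singleton_iff])
  have hdiv : ∀ (p : ℕ) (w : List ℕ), p.Prime → D.T.word w ^ p = 1 → D.T.word w ≠ 1 → p ∣ Nat.card L := by
    intro p w hp h1 h2
    have := Fact.mk hp
    rw [← orderOf_eq_prime h1 h2]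
    exact L.orderOf_dvd_natCard (hword w)
  have h120 : 120 ∣ Nat.card L := by
    have h3 := hdiv 3 sW Nat.prime_three D.good.s_order.1 D.good.s_order.2
    have h5 := hdiv 5 [2, 3] (by norm_num) D.good.five.1 D.good.five.2
    exact Nat.Coprime.mul_dvd_of_dvd_of_dvd (show Nat.Coprime 24 5 by norm_num)
      (Nat.Coprime.mul_dvd_of_dvd_of_dvd (show Nat.Coprime 8 3 by norm_num) h8 h3) h5
  have htop : L = ⊤ := eq_top_of_card_eq L (Nat.dvd_antisymm
    (Subgroup.card_subgroup_dvd_card L) (card_model ▸ h120))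
  rintro g ⟨m, rfl⟩
  exact (htop ▸ mem_top m : m ∈ L)

theorem card_range : Nat.card D.φ.range = 120 :=
  (Nat.card_congr (MonoidHom.ofInjective D.φ_inj).toEquiv).symm.trans card_model

/-- The conjugate of the central involution by an element of `gen` in the Sylow subgroup. -/
theorem orbit_four (m : Mdl) (hm : m * (1, pA) = (1, pA) * m) (h1 : m ≠ 1) :
    ∃ j : ℕ, D.φ m = D.x ^ j * D.a 0 * (D.x ^ j)⁻¹ := by
  obtain ⟨i, j, k, rfl⟩ := D.good.four m hm
  have step : ∀ n : ℕ, D.x ^ (n + 1) * D.a 0 * (D.x ^ (n + 1))⁻¹ =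
      D.x * (D.x ^ n * D.a 0 * (D.x ^ n)⁻¹) * D.x⁻¹ := fun n => by rw [pow_succ']; group
  have hc : ∀ g h : G, D.x * (g * h) * D.x⁻¹ = (D.x * g * D.x⁻¹) * (D.x * h * D.x⁻¹) := fun g h => by group
  have h0 : D.x ^ 0 * D.a 0 * (D.x ^ 0)⁻¹ = D.a 0 := by simp
  have hh1 : D.x ^ 1 * D.a 0 * (D.x ^ 1)⁻¹ = D.a 1 := by rw [step, h0, D.x_t]
  have h2 : D.x ^ 2 * D.a 0 * (D.x ^ 2)⁻¹ = D.a 2 := by rw [step, hh1, D.x_p]
  have h3 : D.x ^ 3 * D.a 0 * (D.x ^ 3)⁻¹ = D.a 0 * D.a 1 := by rw [step, h2, D.x_q]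
  have h4 : D.x ^ 4 * D.a 0 * (D.x ^ 4)⁻¹ = D.a 1 * D.a 2 := by rw [step, h3, hc, D.x_t, D.x_p]
  have h5 : D.x ^ 5 * D.a 0 * (D.x ^ 5)⁻¹ = D.a 2 * (D.a 0 * D.a 1) := by rw [step, h4, hc, D.x_p, D.x_q]
  have h6 : D.x ^ 6 * D.a 0 * (D.x ^ 6)⁻¹ = D.a 0 * D.a 1 * (D.a 1 * D.a 2) := by
    rw [step, h5, hc, D.x_q, hc, D.x_t, D.x_p]
  have e : ∀ n, D.φ (D.T.lett n) = D.a n ∨ 4 ≤ n := fun n => by
    match n with
    | 0 | 1 | 2 | 3 => exact Or.inl rfl
    | n + 4 => exact Or.inr (by omega)
  have c01 : D.a 0 * D.a 1 = D.a 1 * D.a 0 := by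
    show D.φ mt * D.φ _ = D.φ _ * D.φ mt
    rw [← map_mul, ← map_mul, central_mt]
  have c02 : D.a 0 * D.a 2 = D.a 2 * D.a 0 := by
    show D.φ mt * D.φ _ = D.φ _ * D.φ mt
    rw [← map_mul, ← map_mul, central_mt]
  have c12 : D.a 1 * D.a 2 = D.a 2 * D.a 1 := by
    have h := D.model_rel (w := [1, 2, 1, 2]) (by decide)
    simp only [List.map_cons, List.map_nil, List.prod_cons, List.prod_nil, mul_one] at h
    calc D.a 1 * D.a 2 = (D.a 1 * (D.a 2 * (D.a 1 * D.a 2))) * (D.a 2 * D.a 1) := by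
          simp only [mul_assoc, ← mul_assoc (D.a 2) (D.a 2), D.a_sq, one_mul, mul_one]
      _ = _ := by rw [h, one_mul]
  simp only [map_mul, map_pow]
  rw [(e 0).resolve_right (by omega), (e 1).resolve_right (by omega), (e 2).resolve_right (by omega)]
  fin_cases i <;> fin_cases j <;> fin_cases k <;>
    simp only [pow_zero, pow_one, one_mul, mul_one] at h1 ⊢
  · exact absurd rfl h1
  · exact ⟨2, h2.symm⟩
  · exact ⟨1, hh1.symm⟩
  · exact ⟨4, h4.symm⟩
  · exact ⟨0, h0.symm⟩
  · exact ⟨6, by rw [h6, mul_assoc, ← mul_assoc (D.a 1) (D.a 1), D.a_sq, one_mul]⟩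
  · exact ⟨3, h3.symm⟩
  · exact ⟨5, by rw [h5, ← mul_assoc (D.a 2), ← c02, mul_assoc (D.a 0) (D.a 2), ← c12, mul_assoc]⟩

theorem invol_conj [Finite G] (hG : Nat.card G = 175560) {u : G} (hu : u ∈ D.gen) (hu2 : u * u = 1) (hu1 : u ≠ 1) :
    ∃ k ∈ D.gen, k * D.a 0 * k⁻¹ = u := by
  classical
  set K := D.gen with hK
  have : Fact (Nat.Prime 2) := ⟨Nat.prime_two⟩
  set S : Subgroup K := ((centralizer ({((1, pA) : Mdl)} : Set Mdl)).map D.φ).subgroupOf K with hS
  have hS8 : Nat.card S = 8 := by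
    rw [Nat.card_congr (Subgroup.subgroupOfEquivOfLe (le_trans (Subgroup.map_le_range _ _) D.range_le)).toEquiv,
      Nat.card_congr (Subgroup.equivMapOfInjective _ D.φ D.φ_inj).symm.toEquiv,
      ← vm_facts.2.2.2.2.2.1, ← Nat.card_eq_finsetCard]
    exact Nat.card_congr (Equiv.subtypeEquivRight fun a => by simp [mem_centralizer_singleton_iff])
  have hbound : ∀ P : Sylow 2 K, Nat.card P ≤ 8 := fun P => by
    obtain ⟨n, hn⟩ := IsPGroup.iff_card.1 P.isPGroup'
    rw [hn, show (8 : ℕ) = 2 ^ 3 from rfl]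
    refine Nat.pow_le_pow_right (by norm_num) ?_
    by_contra h4
    have h16 : 16 ∣ Nat.card P := by
      rw [hn, show (16 : ℕ) = 2 ^ 4 from rfl]; exact pow_dvd_pow 2 (by omega)
    have h := (h16.trans (Subgroup.card_subgroup_dvd_card (P : Subgroup K))).trans (Subgroup.card_subgroup_dvd_card K)
    rw [hG] at h
    norm_num at h
  obtain ⟨P, hP⟩ := (IsPGroup.of_card (n := 3) (by rw [hS8]; norm_num) : IsPGroup 2 S).exists_le_sylow
  have hPS : S = (P : Subgroup K) := eq_of_le_of_card_ge hP (by rw [hS8]; exact hbound P)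
  have huo : orderOf (⟨u, hu⟩ : K) = 2 :=
    orderOf_eq_prime (Subtype.ext (by simpa [pow_two] using hu2)) fun h => hu1 (congrArg Subtype.val h)
  obtain ⟨Q, hQ⟩ := (IsPGroup.of_card (n := 1) (by rw [Nat.card_zpowers, huo, pow_one]) :
    IsPGroup 2 (zpowers (⟨u, hu⟩ : K))).exists_le_sylow
  obtain ⟨g, hg⟩ := MulAction.exists_smul_eq K P Q
  have hmem : (⟨u, hu⟩ : K) ∈ ((g • P : Sylow 2 K) : Subgroup K) := hg ▸ hQ (mem_zpowers _)
  rw [Sylow.coe_subgroup_smul, Subgroup.mem_pointwise_smul_iff_inv_smul_mem, ← hPS] at hmem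
  rw [hS, mem_subgroupOf] at hmem
  obtain ⟨m, hm, hme⟩ := hmem
  have hme' : D.φ m = (g : G)⁻¹ * u * g := by
    rw [hme]; simp [MulAut.smul_def, MulAut.conj_inv_apply]
  have hm1 : m ≠ 1 := fun h => by
    rw [h, map_one, eq_comm, mul_eq_one_iff_eq_inv] at hme'
    exact hu1 (by simpa using hme')
  obtain ⟨j, hj⟩ := D.orbit_four m (mem_centralizer_singleton_iff.1 hm) hm1
  refine ⟨(g : G) * D.x ^ j, mul_mem g.2 (pow_mem D.x_mem _), ?_⟩
  calc (g : G) * D.x ^ j * D.a 0 * ((g : G) * D.x ^ j)⁻¹ = g * (D.x ^ j * D.a 0 * (D.x ^ j)⁻¹) * (g : G)⁻¹ := by group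
    _ = u := by rw [← hj, hme']; group

theorem centralizer_le {g : G} (h : g * D.a 0 = D.a 0 * g) : g ∈ D.φ.range := by
  rw [D.range_eq]
  exact mem_centralizer_singleton_iff.2 h

theorem gen_eq_top [Finite G] [IsSimpleGroup G] (hG : Nat.card G = 175560) : D.gen = ⊤ := by
  classical
  by_contra hne
  set K := D.gen with hK
  have hmul := K.card_mul_index
  rw [hG] at hmul
  have h840 : 840 ∣ Nat.card K := by
    have h1 : 120 ∣ Nat.card K := D.card_range ▸ card_dvd_of_le D.range_le
    have hxo : orderOf D.x = 7 := by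
      have : Fact (Nat.Prime 7) := ⟨by norm_num⟩
      refine orderOf_eq_prime D.x7 fun h => ?_
      have h' := D.xt
      rw [h, one_mul, inv_one, mul_one] at h'
      have h2 := D.φ_inj h'
      have h3 := D.good.s_p
      have : D.T.lett 1 = mt := h2.symm
      rw [this, central_mt, mul_inv_cancel_right] at h3
      have h4 := D.good.s_q
      rw [← h3, central_mt, mul_inv_cancel_right, this, mt_order.1] at h4
      exact mt_order.2 h4
    exact Nat.Coprime.mul_dvd_of_dvd_of_dvd (show Nat.Coprime 120 7 by norm_num) h1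
      (hxo ▸ K.orderOf_dvd_natCard D.x_mem)
  obtain ⟨c, hc⟩ := h840
  have hn : K.index ∣ 209 := ⟨c, by rw [hc] at hmul; rw [mul_assoc] at hmul; rw [mul_comm K.index]; omega⟩
  have hn1 : K.index ≠ 1 := fun h => hne (index_eq_one.1 h)
  -- only the base coset is fixed by an involution of the Sylow subgroup
  set S : Subgroup G := (centralizer ({((1, pA) : Mdl)} : Set Mdl)).map D.φ with hS
  have hSK : S ≤ K := le_trans (Subgroup.map_le_range _ _) D.range_le
  have hfix : ∀ u : G, u ∈ S → u ≠ 1 → ∀ g : G, g⁻¹ * u * g ∈ K → g ∈ K := by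
    intro u hu hu1 g hgK
    obtain ⟨m, hm, rfl⟩ := hu
    have hm' := mem_centralizer_singleton_iff.1 hm
    obtain ⟨j, hj⟩ := D.orbit_four m hm' fun h => hu1 (by rw [h, map_one])
    have hsq : g⁻¹ * D.φ m * g * (g⁻¹ * D.φ m * g) = 1 := by
      calc _ = g⁻¹ * D.φ (m * m) * g := by rw [map_mul]; group
        _ = 1 := by rw [vm_facts.2.1 m hm', map_one]; group
    obtain ⟨k, hk, hke⟩ := D.invol_conj hG hgK hsq fun h => hu1 (by
      have := congrArg (fun z => g * z * g⁻¹) h
      simpa [mul_assoc] using this)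
    have hcz : ((D.x ^ j)⁻¹ * g * k) * D.a 0 = D.a 0 * ((D.x ^ j)⁻¹ * g * k) := by
      rw [hj] at hke
      calc (D.x ^ j)⁻¹ * g * k * D.a 0 = (D.x ^ j)⁻¹ * g * (k * D.a 0 * k⁻¹) * k := by group
        _ = _ := by rw [hke]; group
    have hh := D.range_le (D.centralizer_le hcz)
    have := mul_mem (mul_mem (pow_mem D.x_mem j) hh) (inv_mem hk)
    simpa [mul_assoc] using this
  have h8 : K.index % 8 = 1 := by
    have hS8 : Nat.card S = 8 := by
      rw [Nat.card_congr (Subgroup.equivMapOfInjective _ D.φ D.φ_inj).symm.toEquiv,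
        ← vm_facts.2.2.2.2.2.1, ← Nat.card_eq_finsetCard]
      exact Nat.card_congr (Equiv.subtypeEquivRight fun a => by simp [mem_centralizer_singleton_iff])
    have := Fintype.ofFinite (Quotient (MulAction.orbitRel S (G ⧸ K)))
    rw [Subgroup.index, Nat.card_congr (MulAction.selfEquivSigmaOrbits S (G ⧸ K)), Nat.card_sigma]
    set b : Quotient (MulAction.orbitRel S (G ⧸ K)) := Quotient.mk'' ((1 : G) : G ⧸ K) with hb
    have hsz : ∀ ω, Nat.card (MulAction.orbit S ω.out) % 8 = if ω = b then 1 else 0 := by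
      intro ω
      by_cases hω : ω = b
      · subst hω
        rw [if_pos rfl]
        have hr : b.out ∈ MulAction.orbit S ((1 : G) : G ⧸ K) := Quotient.exact' (Quotient.out_eq' b)
        rw [MulAction.orbit_eq_iff.2 hr]
        have h1 : MulAction.orbit S ((1 : G) : G ⧸ K) = {((1 : G) : G ⧸ K)} := by
          ext q
          refine ⟨?_, fun h => by rw [Set.mem_singleton_iff.1 h]; exact MulAction.mem_orbit_self _⟩
          rintro ⟨v, rfl⟩
          show (((v : G) * 1 : G) : G ⧸ K) = _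
          rw [mul_one]
          exact (QuotientGroup.eq.2 (by rw [inv_one, one_mul]; exact hSK v.2)).symm
        rw [h1]
        simp
      · rw [if_neg hω]
        have hst : MulAction.stabilizer S ω.out = ⊥ := by
          refine (Subgroup.eq_bot_iff_forall _).2 fun v hv => ?_
          by_contra hv1
          refine hω ?_
          obtain ⟨g, hg⟩ := QuotientGroup.mk_surjective ω.out
          have hv' : ((v : G) * g : G ⧸ K) = (g : G ⧸ K) := by
            rw [hg]
            have := MulAction.mem_stabilizer_iff.1 hv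
            rw [← hg] at this ⊢
            exact this
          have hmem := QuotientGroup.eq.1 hv'.symm
          rw [← mul_assoc] at hmem
          have hgK := hfix v v.2 (fun h => hv1 (Subtype.ext h)) g hmem
          rw [← Quotient.out_eq ω, ← hg]
          show Quotient.mk'' _ = _
          rw [hb, (QuotientGroup.eq (s := K)).2 (show g⁻¹ * 1 ∈ K by rw [mul_one]; exact inv_mem hgK)]
        have := Nat.card_congr (MulAction.orbitProdStabilizerEquivGroup S ω.out)
        rw [Nat.card_prod, hst, Subgroup.card_bot, mul_one, hS8] at this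
        rw [this]
    rw [Finset.sum_nat_mod, Finset.sum_congr rfl fun ω _ => hsz ω, Finset.sum_ite_eq' Finset.univ b]
    simp
  have h209 : K.index = 209 := by
    have key : ∀ n < 210, n ∣ 209 → n % 8 = 1 → n ≠ 1 → n = 209 := by decide +kernel
    exact key _ (Nat.lt_succ_of_le (Nat.le_of_dvd (by norm_num) hn)) hn h8 hn1
  have hK840 : Nat.card K = 840 := by rw [h209] at hmul; omega
  -- thirty-one conjugates of the central involution in seven cosets
  set H : Subgroup K := D.φ.range.subgroupOf K with hH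
  have hH7 : H.index = 7 := by
    have h := H.card_mul_index
    rw [hK840, Nat.card_congr (Subgroup.subgroupOfEquivOfLe D.range_le).toEquiv, D.card_range] at h
    omega
  have hI : ∀ m : {a : Mdl // a * a = 1 ∧ a ≠ 1}, ∃ k : K, (k : G) * D.a 0 * (k : G)⁻¹ = D.φ m.1 := fun m => by
    obtain ⟨k, hk, hke⟩ := D.invol_conj hG (D.range_le ⟨m.1, rfl⟩) (by rw [← map_mul, m.2.1, map_one])
      (fun h => m.2.2 (D.φ_inj (h.trans (map_one _).symm)))
    exact ⟨⟨k, hk⟩, hke⟩
  choose kk hkk using hI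
  have hinj : Function.Injective fun m => ((kk m : K) : K ⧸ H) := by
    intro a b hab
    have hm := QuotientGroup.eq.1 hab
    rw [hH, mem_subgroupOf, D.range_eq, mem_centralizer_singleton_iff] at hm
    push_cast at hm
    refine Subtype.ext (D.φ_inj ?_)
    rw [← hkk a, ← hkk b]
    have hm' : (kk a : G)⁻¹ * (kk b : G) * D.a 0 = D.a 0 * ((kk a : G)⁻¹ * (kk b : G)) := hm
    calc (kk a : G) * D.a 0 * (kk a : G)⁻¹
        = (kk a : G) * (D.a 0 * ((kk a : G)⁻¹ * (kk b : G))) * (kk b : G)⁻¹ := by group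
      _ = _ := by rw [← hm']; group
  have hle := Nat.card_le_card_of_injective _ hinj
  rw [← Subgroup.index, hH7] at hle
  have h31 : Nat.card {a : Mdl // a * a = 1 ∧ a ≠ 1} = 31 := by
    rw [← vm_facts.2.2.2.2.2.2.2, ← Nat.card_eq_finsetCard]
    exact Nat.card_congr (Equiv.subtypeEquivRight fun a => by simp)
  omega

theorem rel_of (y : List ℕ) (hy : Commute (D.φ (D.T.word sW)) (y.map D.a).prod) {L : List (List ℕ)}
    (hL : L.all (fun w => (baseRels ++ [commRel y]).contains w) = true) :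
    ∀ w ∈ L, (w.map D.a).prod = 1 := fun w hw => by
  have h := List.all_eq_true.1 hL w hw
  rw [List.contains_iff_mem, List.mem_append, List.mem_singleton] at h
  rcases h with h | rfl
  · exact D.base_rel h
  · exact D.comm_rel hy

theorem four_in_range : Cert.WordsIn D.a D.φ.range [[0], [1], [2], [3]] := by
  intro w hw
  simp only [List.mem_cons, List.not_mem_nil, or_false] at hw
  rcases hw with rfl | rfl | rfl | rfl <;> simp only [List.map_cons, List.map_nil, List.prod_cons, List.prod_nil, mul_one]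
  all_goals exact ⟨_, rfl⟩

theorem no_collapse [Finite G] [IsSimpleGroup G] (hG : Nat.card G = 175560) {C : Cert} (hok : C.OK)
    (hn : C.n = 1) (hkl : C.kl = [0, 1, 2, 3, 4]) (hsubs : C.subs = [[0], [1], [2], [3]])
    (hrel : ∀ w ∈ C.rels, (w.map D.a).prod = 1) : False := by
  have h := (Cert.card_le (a := D.a) D.a_sq rfl hok D.φ.range D.gen hrel (hsubs ▸ D.four_in_range)
    (by rw [hkl]; exact le_rfl)).2
  rw [hn, D.gen_eq_top hG, Subgroup.card_top, hG, D.card_range] at h
  omega

theorem word_range (w : List ℕ) (h : ∀ i ∈ w, i < 4) : (w.map D.a).prod = D.φ (D.T.word w) := D.prod_word w h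

theorem top_rel [Finite G] [IsSimpleGroup G] (hG : Nat.card G = 175560)
    (hinv : ∀ u : G, orderOf u = 2 → IsConj (D.φ mt) u) :
    ∀ w ∈ J1Top.cert.rels, (w.map D.a).prod = 1 := by
  classical
  set t := D.φ mt with ht
  have hto : orderOf t = 2 := by
    refine orderOf_eq_prime ?_ fun h => mt_order.2 (D.φ_inj (h.trans (map_one _).symm))
    rw [pow_two]; exact D.t_sq
  let e : centralizer ({t} : Set G) ≃* Mdl :=
    (MulEquiv.subgroupCongr D.range_eq.symm).trans (MonoidHom.ofInjective D.φ_inj).symm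
  set s := D.φ (D.T.word sW) with hs
  have hs3 : orderOf s = 3 := by
    have : Fact (Nat.Prime 3) := ⟨Nat.prime_three⟩
    refine orderOf_eq_prime (by rw [hs, ← map_pow, D.good.s_order.1, map_one]) fun h => ?_
    exact D.good.s_order.2 (D.φ_inj (h.trans (map_one _).symm))
  have hC := card_centralizer_three hG t hto hinv e hs3
  have : Fact (Nat.Prime 5) := ⟨by norm_num⟩
  obtain ⟨y0, hy0⟩ := exists_prime_orderOf_dvd_card' (G := centralizer ({s} : Set G)) 5 (by rw [hC]; norm_num)
  set y : G := (y0 : G) with hy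
  have hyo : orderOf y = 5 := by rwa [hy, Subgroup.orderOf_coe]
  have hys : Commute y s := mem_centralizer_singleton_iff.1 y0.2
  have hsy : orderOf (⟨s, mem_centralizer_singleton_iff.2 rfl⟩ * y0 : centralizer ({s} : Set G)) = 15 := by
    rw [← Subgroup.orderOf_coe, Subgroup.coe_mul, hys.symm.orderOf_mul_eq_mul_orderOf_of_coprime
      (by rw [hs3, hyo]; norm_num), hs3, hyo]
  set Y := zpowers (⟨s, mem_centralizer_singleton_iff.2 rfl⟩ * y0 : centralizer ({s} : Set G)) with hY
  have hY2 : Y.index = 2 := by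
    have h := Y.card_mul_index
    rw [hC, hY, Nat.card_zpowers, hsy] at h
    rw [hY]
    omega
  have hfive : ∀ z : G, z * s = s * z → z ^ 5 = 1 → ∃ i : ℕ, z = y ^ i := by
    intro z hzs hz5
    set z0 : centralizer ({s} : Set G) := ⟨z, mem_centralizer_singleton_iff.2 hzs⟩
    have hz : z0 ∈ Y := by
      have h2 : z0 ^ 6 ∈ Y := by
        rw [show 6 = 2 * 3 from rfl, pow_mul, pow_two]
        exact pow_mem (Subgroup.mul_self_mem_of_index_two hY2 z0) 3
      have : z0 ^ 6 = z0 := Subtype.ext (by show z ^ 6 = z; rw [pow_succ, hz5, one_mul])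
      rwa [this] at h2
    rw [hY, ← mem_powers_iff_mem_zpowers, Submonoid.mem_powers_iff] at hz
    obtain ⟨n, hn⟩ := hz
    have hzn : z = s ^ n * y ^ n := by
      rw [← hys.symm.mul_pow]
      exact (congrArg Subtype.val hn).symm
    have h3 : 3 ∣ 5 * n := by
      rw [← hs3]
      refine orderOf_dvd_of_pow_eq_one ?_
      have h5 := hz5
      rw [hzn, (hys.symm.pow_pow n n).mul_pow, ← pow_mul, ← pow_mul y, mul_comm n 5] at h5
      rw [show y ^ (5 * n) = 1 from by rw [pow_mul, ← hyo, pow_orderOf_eq_one, one_pow], mul_one] at h5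
      exact h5
    refine ⟨n, ?_⟩
    rw [hzn, orderOf_dvd_iff_pow_eq_one.1 (hs3.symm ▸ (show 3 ∣ n by omega)), one_mul]
  -- an involution normalising the centraliser of `s` centralises or inverts `y`
  have hpm : ∀ g : G, g * g = 1 → (g * s * g⁻¹ = s ∨ g * s * g⁻¹ = s⁻¹) →
      g * y * g⁻¹ = y ∨ g * y * g⁻¹ = y⁻¹ := by
    intro g hg hgs
    have hcom : (g * y * g⁻¹) * (g * s * g⁻¹) = (g * s * g⁻¹) * (g * y * g⁻¹) := by
      calc _ = g * (y * s) * g⁻¹ := by group
        _ = g * (s * y) * g⁻¹ := by rw [hys.eq]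
        _ = _ := by group
    have hc : (g * y * g⁻¹) * s = s * (g * y * g⁻¹) := by
      rcases hgs with h | h <;> rw [h] at hcom
      · exact hcom
      · exact (Commute.inv_right_iff.1 hcom : Commute (g * y * g⁻¹) s)
    obtain ⟨i, hi⟩ := hfive _ hc (by rw [conj_pow, ← hyo, pow_orderOf_eq_one, mul_one, mul_inv_cancel])
    have hgg : g⁻¹ = g := inv_eq_of_mul_eq_one_right hg
    have h2 : y ^ (i * i) = y ^ 1 := by
      rw [pow_one, pow_mul, ← hi, conj_pow, ← hi]
      calc g * (g * y * g⁻¹) * g⁻¹ = g * g * y * (g⁻¹ * g⁻¹) := by group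
        _ = y := by rw [hg, ← mul_inv_rev, hg, inv_one, one_mul, mul_one]
    rw [pow_eq_pow_iff_modEq, hyo] at h2
    have key : ∀ r < 5, r * r % 5 = 1 → r = 1 ∨ r = 4 := by decide
    have h5 : y ^ 5 = 1 := hyo ▸ pow_orderOf_eq_one y
    rw [← pow_mod_orderOf, hyo] at hi
    rcases key (i % 5) (Nat.mod_lt _ (by norm_num)) (by rw [← Nat.mul_mod]; exact h2) with h | h <;> rw [h] at hi
    · exact Or.inl (by rw [hi, pow_one])
    · refine Or.inr (hi.trans (eq_inv_of_mul_eq_one_left ?_))
      rw [← pow_succ, h5]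
  have hts : t * s * t⁻¹ = s := by
    rw [ht, hs, ← map_mul, ← central_mt, map_mul, mul_inv_cancel_right]
  have hyt : t * y * t⁻¹ = y⁻¹ := by
    refine (hpm t D.t_sq (Or.inl hts)).resolve_left fun h => ?_
    obtain ⟨m, hm⟩ := D.centralizer_le (g := y) (mul_inv_eq_iff_eq_mul.1 h).symm
    have hm1 := five_cent (D.T.word sW) D.good.s_order.1 D.good.s_order.2 m
      (D.φ_inj (by rw [map_pow, hm, map_one, ← hyo, pow_orderOf_eq_one]))
      (D.φ_inj (by rw [map_mul, map_mul, hm]; exact hys.eq))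
    rw [hm1, map_one] at hm
    rw [← hm, orderOf_one] at hyo
    norm_num at hyo
  set c := D.φ (D.T.word cW) with hc
  set v := D.φ (D.T.word vW) with hv
  have hcw : c = ([1, 3].map D.a).prod := (D.prod_word [1, 3] (by decide)).symm
  have hct : c * t = t * c := by rw [hc, ht, ← map_mul, ← map_mul, central_mt]
  have hvv : v * v = 1 := by
    rw [hv, ← D.prod_word vW (by decide)]
    nth_rw 2 [show vW = vW.reverse from by decide]
    rw [D.prod_rev, mul_inv_cancel]
  have hvs : v * s * v⁻¹ = s⁻¹ := by rw [hv, hs, ← map_inv, ← map_inv, ← map_mul, ← map_mul, D.good.v_s]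
  have hcp : c * D.a 1 * c⁻¹ = v := by
    show c * D.φ _ * c⁻¹ = v
    rw [hc, ← map_inv, ← map_mul, ← map_mul, D.good.c_p]
  have hct' : c⁻¹ * t * c = t := by rw [mul_assoc, ← hct, inv_mul_cancel_left]
  have hq : D.x⁻¹ * t * D.x = t * D.a 2 := by
    have h : D.x * (t * D.a 2) * D.x⁻¹ = t := by
      calc _ = (D.x * D.a 0 * D.x⁻¹) * (D.x * D.a 2 * D.x⁻¹) := by show D.x * (D.a 0 * D.a 2) * _ = _; group
        _ = D.a 1 * (D.a 0 * D.a 1) := by rw [D.x_t, D.x_q]
        _ = t := by
          have hc01 : D.a 0 * D.a 1 = D.a 1 * D.a 0 := by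
            show D.φ mt * D.φ _ = D.φ _ * D.φ mt
            rw [← map_mul, ← map_mul, central_mt]
          rw [hc01, ← mul_assoc, D.a_sq, one_mul]; rfl
    conv_lhs => rw [← h]
    group
  have hp : D.x⁻¹ * D.a 1 * D.x = t := by
    rw [← D.x_t]; show _ = D.a 0; group
  have hq' : D.x⁻¹ * D.a 2 * D.x = D.a 1 := by rw [← D.x_p]; group
  have h5 : y ^ 5 = 1 := hyo ▸ pow_orderOf_eq_one y
  have hy1 : y ≠ 1 := fun h => by rw [h, orderOf_one] at hyo; norm_num at hyo
  -- the element of order five as a conjugate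
  have main : ∀ (g : G) (i j : ℕ), g⁻¹ * t * g = D.φ (D.T.lett i * D.T.lett j) →
      (g * t * g⁻¹) * y = y * (g * t * g⁻¹) →
      (∃ m : Mdl, D.φ m = g⁻¹ * y * g ∧ m ^ 5 = 1 ∧ m ≠ 1 ∧
        (D.T.lett i * D.T.lett j) * m * (D.T.lett i * D.T.lett j)⁻¹ = m⁻¹) := by
    intro g i j hg hgy
    obtain ⟨m, hm⟩ := D.centralizer_le (g := g⁻¹ * y * g) (by
      show _ * t = t * _
      calc g⁻¹ * y * g * t = g⁻¹ * (y * (g * t * g⁻¹)) * g := by group
        _ = t * (g⁻¹ * y * g) := by rw [← hgy]; group)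
    refine ⟨m, hm, D.φ_inj ?_, fun h => hy1 ?_, D.φ_inj ?_⟩
    · rw [map_pow, hm, map_one]
      calc (g⁻¹ * y * g) ^ 5 = (g⁻¹ * y * g⁻¹⁻¹) ^ 5 := by rw [inv_inv]
        _ = 1 := by rw [conj_pow, h5, mul_one, mul_inv_cancel]
    · rw [h, map_one] at hm
      calc y = g * (g⁻¹ * y * g) * g⁻¹ := by group
        _ = 1 := by rw [← hm]; group
    · rw [map_mul, map_mul _ _ m, map_inv, map_inv, hm, ← hg]
      calc _ = g⁻¹ * (t * y * t⁻¹) * g := by group
        _ = _ := by rw [hyt]; group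
  have wrap : ∀ (g : G) (m : Mdl) (k : ℕ), D.φ m = g⁻¹ * y * g → ∀ (z : G), g * D.φ (m ^ k) * g⁻¹ = z →
      Commute (D.φ (D.T.word sW)) z := by
    intro g m k hm z hz
    rw [← hz, map_pow, hm]
    have : g * (g⁻¹ * y * g) ^ k * g⁻¹ = y ^ k := by
      rw [← conj_pow]
      congr 1
      group
    rw [this]
    exact (hys.pow_left k).symm
  have hcr : ([3, 1].map D.a).prod = c⁻¹ := by
    rw [hcw, show [3, 1] = [1, 3].reverse from rfl, D.prod_rev]
  rcases hpm v hvv (Or.inr hvs) with hvy | hvy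
  · obtain ⟨m, hm, hm5, hm1, hminv⟩ := main (c * D.x) 0 2
      (by
        calc (c * D.x)⁻¹ * t * (c * D.x) = D.x⁻¹ * (c⁻¹ * t * c) * D.x := by group
          _ = t * D.a 2 := by rw [hct', hq]
          _ = _ := (map_mul D.φ _ _).symm)
      (by
        have : c * D.x * t * (c * D.x)⁻¹ = v := by
          rw [← hcp, ← D.x_t]; show _ = c * (D.x * t * D.x⁻¹) * c⁻¹; group
        rw [this]
        exact mul_inv_eq_iff_eq_mul.1 hvy)
    obtain ⟨k, hk⟩ := D.good.five_v m hm5 hm1 hminv
    have key : ∀ aw : List ℕ, (∀ i ∈ aw, i < 4) → m ^ k.val = D.T.word aw →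
        Commute (D.φ (D.T.word sW)) (([1, 3] ++ aw.flatMap sub ++ [3, 1]).map D.a).prod := by
      intro aw haw hme
      refine wrap (c * D.x) m k.val hm _ ?_
      rw [hme, ← D.prod_word aw haw, List.map_append, List.map_append, List.prod_append, List.prod_append,
        D.conj_word aw haw, hcr, ← hcw]
      group
    rcases hk with hk | hk
    · exact (D.no_collapse hG J1NoA.ok rfl rfl rfl (D.rel_of yA (key [2, 3] (by decide) hk) rels_A)).elim
    · exact D.rel_of yTop (key [1, 2, 3, 1] (by decide) hk) rels_top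
  · have hx3 : D.x * D.x * D.x * t * (D.x * D.x * D.x)⁻¹ = t * D.a 1 := by
      calc _ = D.x * (D.x * (D.x * D.a 0 * D.x⁻¹) * D.x⁻¹) * D.x⁻¹ := by
            show D.x * D.x * D.x * D.a 0 * _ = _; group
        _ = t * D.a 1 := by rw [D.x_t, D.x_p, D.x_q]; rfl
    obtain ⟨m, hm, hm5, hm1, hminv⟩ := main (c * (D.x * D.x * D.x)) 1 2
      (by
        calc (c * (D.x * D.x * D.x))⁻¹ * t * (c * (D.x * D.x * D.x))
            = D.x⁻¹ * (D.x⁻¹ * (D.x⁻¹ * (c⁻¹ * t * c) * D.x) * D.x) * D.x := by group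
          _ = D.x⁻¹ * ((D.x⁻¹ * t * D.x) * (D.x⁻¹ * D.a 2 * D.x)) * D.x := by
            rw [hct']; conv_lhs => rw [hq]
            group
          _ = (D.x⁻¹ * t * D.x) * (D.x⁻¹ * D.a 2 * D.x) * (D.x⁻¹ * D.a 1 * D.x) := by
            conv_lhs => rw [hq, hq']
            group
          _ = D.a 1 * D.a 2 := by
            rw [hq, hq', hp]
            have e1 : D.a 2 * D.a 1 = D.a 1 * D.a 2 := by
              have h := D.model_rel (w := [1, 2, 1, 2]) (by decide)
              simp only [List.map_cons, List.map_nil, List.prod_cons, List.prod_nil, mul_one] at h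
              calc D.a 2 * D.a 1 = (D.a 2 * D.a 1) * (D.a 1 * (D.a 2 * (D.a 1 * D.a 2))) := by rw [h, mul_one]
                _ = _ := by simp only [mul_assoc, ← mul_assoc (D.a 1) (D.a 1), ← mul_assoc (D.a 2) (D.a 2), D.a_sq,
                  one_mul, mul_one]
            calc t * D.a 2 * D.a 1 * t = t * (D.a 1 * D.a 2) * t := by rw [mul_assoc t, e1]
              _ = D.a 1 * D.a 2 := by
                show D.φ mt * (D.φ _ * D.φ _) * D.φ mt = D.φ _ * D.φ _
                rw [← map_mul, ← map_mul, ← map_mul, ← central_mt, mul_assoc, mt_order.1, mul_one]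
          _ = _ := (map_mul D.φ _ _).symm)
      (by
        have hg : c * (D.x * D.x * D.x) * t * (c * (D.x * D.x * D.x))⁻¹ = t * v := by
          rw [← hcp]
          calc _ = c * (D.x * D.x * D.x * t * (D.x * D.x * D.x)⁻¹) * c⁻¹ := by group
            _ = (c * t * c⁻¹) * (c * D.a 1 * c⁻¹) := by rw [hx3]; group
            _ = _ := by rw [hct, mul_inv_cancel_right]
        rw [hg]
        calc t * v * y = t * (v * y * v⁻¹) * v := by group
          _ = (t * y * t⁻¹)⁻¹ * t * v := by rw [hvy]; group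
          _ = y * (t * v) := by rw [hyt, inv_inv, mul_assoc])
    obtain ⟨k, hk⟩ := D.good.five_tv m hm5 hm1 hminv
    have key : ∀ aw : List ℕ, (∀ i ∈ aw, i < 4) → m ^ k.val = D.T.word aw →
        Commute (D.φ (D.T.word sW))
          (([1, 3] ++ xW ++ xW ++ aw.flatMap sub ++ xW.reverse ++ xW.reverse ++ [3, 1]).map D.a).prod := by
      intro aw haw hme
      refine wrap (c * (D.x * D.x * D.x)) m k.val hm _ ?_
      simp only [List.map_append, List.prod_append]
      rw [hme, ← D.prod_word aw haw, D.conj_word aw haw, D.prod_rev, D.prod_xW, hcr, ← hcw]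
      group
    rcases hk with hk | hk
    · exact (D.no_collapse hG J1NoB.ok rfl rfl rfl (D.rel_of yB (key [1, 2, 3, 1, 3] (by decide) hk) rels_B)).elim
    · exact (D.no_collapse hG J1NoC.ok rfl rfl rfl (D.rel_of yC (key [1, 2, 3, 2, 3] (by decide) hk) rels_C)).elim

end Setup

/-- Two groups of order `175560` with the local data of `J₁` are isomorphic. -/
theorem nonempty_iso {G H : Type*} [Group G] [Finite G] [IsSimpleGroup G] [Group H] [Finite H] [IsSimpleGroup H]
    (hG : Nat.card G = 175560) (t : G) (ht : orderOf t = 2) (hinvG : ∀ u : G, orderOf u = 2 → IsConj t u)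
    (e : centralizer ({t} : Set G) ≃* Mdl)
    (hH : Nat.card H = 175560) (u : H) (hu : orderOf u = 2) (hinvH : ∀ w : H, orderOf w = 2 → IsConj u w)
    (f : centralizer ({u} : Set H) ≃* Mdl) : Nonempty (G ≃* H) := by
  obtain ⟨D, hD⟩ := exists_setup hG t ht hinvG e
  obtain ⟨E, hE⟩ := exists_setup hH u hu hinvH f
  have hr1 := D.top_rel hG (by rw [hD]; exact hinvG)
  have hr2 := E.top_rel hH (by rw [hE]; exact hinvH)
  set P : ℕ → G × H := fun i => (D.a i, E.a i) with hP
  have hsq : ∀ i, P i * P i = 1 := fun i => Prod.ext (D.a_sq i) (E.a_sq i)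
  have hprod : ∀ w : List ℕ, (w.map P).prod = ((w.map D.a).prod, (w.map E.a).prod) := by
    intro w
    induction w with
    | nil => rfl
    | cons i w ih => rw [List.map_cons, List.prod_cons, ih]; rfl
  have hrelT : ∀ w ∈ J1Top.cert.rels, (w.map P).prod = 1 := fun w hw => by
    rw [hprod, hr1 w hw, hr2 w hw]; rfl
  have hrelC : ∀ w ∈ J1Cent.cert.rels, (w.map P).prod = 1 := fun w hw => by
    have hw' : w ∈ centRels := by
      have h : J1Cent.cert.rels.all (fun w => centRels.contains w) = true := by decide +kernel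
      simpa using List.all_eq_true.1 h w hw
    rw [hprod, D.model_rel hw', E.model_rel hw']; rfl
  set L : Subgroup (G × H) := closure {g | ∃ i ∈ [0, 1, 2, 3], g = P i} with hL
  have hL120 : Nat.card L ≤ 120 := by
    have h := (Cert.card_le (a := P) hsq rfl J1Cent.ok ⊥ L hrelC (fun w hw => by simp [J1Cent.cert] at hw) le_rfl).2
    rwa [Subgroup.card_bot, mul_one] at h
  set K : Subgroup (G × H) := closure {g | ∃ i ∈ [0, 1, 2, 3, 4], g = P i} with hK
  have hsub : Cert.WordsIn P L J1Top.cert.subs := by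
    intro w hw
    simp only [J1Top.cert, List.mem_cons, List.not_mem_nil, or_false] at hw
    rcases hw with rfl | rfl | rfl | rfl <;>
      simp only [List.map_cons, List.map_nil, List.prod_cons, List.prod_nil, mul_one] <;>
      exact subset_closure ⟨_, by simp, rfl⟩
  have hKle : Nat.card K ≤ 1463 * Nat.card L :=
    (Cert.card_le (a := P) hsq rfl J1Top.ok L K hrelT hsub le_rfl).2
  have hsurj1 : Function.Surjective ((MonoidHom.fst G H).comp K.subtype) := by
    rw [← MonoidHom.range_eq_top, MonoidHom.range_comp, Subgroup.range_subtype, hK, MonoidHom.map_closure,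
      eq_top_iff, ← D.gen_eq_top hG]
    refine closure_mono ?_
    rintro g ⟨i, hi, rfl⟩
    exact ⟨P i, ⟨i, hi, rfl⟩, rfl⟩
  have hsurj2 : Function.Surjective ((MonoidHom.snd G H).comp K.subtype) := by
    rw [← MonoidHom.range_eq_top, MonoidHom.range_comp, Subgroup.range_subtype, hK, MonoidHom.map_closure,
      eq_top_iff, ← E.gen_eq_top hH]
    refine closure_mono ?_
    rintro g ⟨i, hi, rfl⟩
    exact ⟨P i, ⟨i, hi, rfl⟩, rfl⟩
  have h1 := Nat.card_le_card_of_surjective _ hsurj1
  have h2 := Nat.card_le_card_of_surjective _ hsurj2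
  rw [hG] at h1
  rw [hH] at h2
  have hK' : Nat.card K = 175560 := by omega
  have hb1 := (Nat.bijective_iff_surjective_and_card _).2 ⟨hsurj1, hK'.trans hG.symm⟩
  have hb2 := (Nat.bijective_iff_surjective_and_card _).2 ⟨hsurj2, hK'.trans hH.symm⟩
  exact ⟨(MulEquiv.ofBijective _ hb1).symm.trans (MulEquiv.ofBijective _ hb2)⟩

end CfsgLib.Recog.J1Unique
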