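import Cfsg.Agent.Lib.Recog.J1Order.Local

/-!
Owner: helper29. Two marked triples of involutions of `A₅` and the finite facts about `Z₂ × A₅` used for the
uniqueness of `J₁`.
-/

set_option autoImplicit false
set_option Elab.async false
set_option maxRecDepth 100000
set_option synthInstance.maxSize 2000
set_option synthInstance.maxHeartbeats 200000

namespace CfsgLib.Recog.J1Unique

open CfsgLib.Recog.J1Order

/-- A marked triple. -/
structure Triple where
  P : A5
  Q : A5
  R : A5

/-- The first involution. -/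
def pA : A5 := ⟨Equiv.swap 1 2 * Equiv.swap 3 4, by rw [Equiv.Perm.mem_alternatingGroup]; decide +kernel⟩
/-- The second involution. -/
def qA : A5 := ⟨Equiv.swap 1 3 * Equiv.swap 2 4, by rw [Equiv.Perm.mem_alternatingGroup]; decide +kernel⟩
/-- The third involution. -/
def rA : A5 := ⟨Equiv.swap 0 1 * Equiv.swap 2 3, by rw [Equiv.Perm.mem_alternatingGroup]; decide +kernel⟩

/-- The first marking. -/
def trA : Triple := ⟨pA, qA, rA⟩
/-- The second marking. -/
def trB : Triple := ⟨qA, pA, rA⟩

/-- The central involution. -/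
def mt : Mdl := (Multiplicative.ofAdd 1, 1)

/-- The letters of the model. -/
def Triple.lett (T : Triple) : ℕ → Mdl
  | 0 => mt
  | 1 => (1, T.P)
  | 2 => (1, T.Q)
  | 3 => (1, T.R)
  | _ => 1

/-- The value of a word. -/
def Triple.word (T : Triple) (w : List ℕ) : Mdl := (w.map T.lett).prod

/-- The word of the element of order three. -/
def sW : List ℕ := [3, 1, 3, 2, 3]
/-- The word of the conjugating element. -/
def cW : List ℕ := [1, 3]
/-- The word of an involution inverting the element of order three. -/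
def vW : List ℕ := [1, 3, 1, 3, 1]

/-- The relators of the centraliser. -/
def centRels : List (List ℕ) :=
  [[0, 0], [1, 1], [2, 2], [3, 3], [0, 1, 0, 1], [0, 2, 0, 2], [0, 3, 0, 3], [1, 2, 1, 2],
    (List.replicate 5 [1, 3]).flatten, (List.replicate 5 [2, 3]).flatten, (List.replicate 3 [1, 2, 3]).flatten]

/-- The finite facts required of a marking. -/
structure Triple.Good (T : Triple) : Prop where
  rels : ∀ w ∈ centRels, T.word w = 1
  s_p : T.word sW * T.lett 1 * (T.word sW)⁻¹ = T.lett 2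
  s_q : T.word sW * T.lett 2 * (T.word sW)⁻¹ = T.lett 1 * T.lett 2
  v_s : T.word vW * T.word sW * (T.word vW)⁻¹ = (T.word sW)⁻¹
  c_p : T.word cW * T.lett 1 * (T.word cW)⁻¹ = T.word vW
  five_v : ∀ m : Mdl, m ^ 5 = 1 → m ≠ 1 → (T.lett 0 * T.lett 2) * m * (T.lett 0 * T.lett 2)⁻¹ = m⁻¹ →
    ∃ k : Fin 5, m ^ k.val = T.word [2, 3] ∨ m ^ k.val = T.word [1, 2, 3, 1]
  five_tv : ∀ m : Mdl, m ^ 5 = 1 → m ≠ 1 → (T.lett 1 * T.lett 2) * m * (T.lett 1 * T.lett 2)⁻¹ = m⁻¹ →
    ∃ k : Fin 5, m ^ k.val = T.word [1, 2, 3, 1, 3] ∨ m ^ k.val = T.word [1, 2, 3, 2, 3]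
  s_order : T.word sW ^ 3 = 1 ∧ T.word sW ≠ 1
  five : T.word [2, 3] ^ 5 = 1 ∧ T.word [2, 3] ≠ 1
  four : ∀ m : Mdl, Commute m (1, pA) → ∃ i j k : Fin 2, m = T.lett 0 ^ i.val * T.lett 1 ^ j.val * T.lett 2 ^ k.val

theorem good_A : trA.Good where
  rels := by decide +kernel
  s_p := by decide +kernel
  s_q := by decide +kernel
  v_s := by decide +kernel
  c_p := by decide +kernel
  five_v := by decide +kernel
  five_tv := by decide +kernel
  s_order := by decide +kernel
  five := by decide +kernel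
  four := by unfold Commute SemiconjBy; decide +kernel

theorem good_B : trB.Good where
  rels := by decide +kernel
  s_p := by decide +kernel
  s_q := by decide +kernel
  v_s := by decide +kernel
  c_p := by decide +kernel
  five_v := by decide +kernel
  five_tv := by decide +kernel
  s_order := by decide +kernel
  five := by decide +kernel
  four := by unfold Commute SemiconjBy; decide +kernel

theorem sB : trB.word sW = (trA.word sW)⁻¹ := by decide +kernel

theorem central_mt : ∀ m : Mdl, m * mt = mt * m := by decide +kernel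

theorem mt_order : mt * mt = 1 ∧ mt ≠ 1 := by decide +kernel

/-- The four-group times the centre. -/
theorem vm_facts :
    (∀ a b : Mdl, a * (1, pA) = (1, pA) * a → b * (1, pA) = (1, pA) * b → a * b = b * a) ∧
    (∀ a : Mdl, a * (1, pA) = (1, pA) * a → a * a = 1) ∧
    (∀ a : Mdl, a * (1, pA) = (1, pA) * a → a * trA.word sW = trA.word sW * a → a = 1 ∨ a = mt) ∧
    (∀ a : Mdl, a * (1, pA) = (1, pA) * a →
      (trA.word sW * a * (trA.word sW)⁻¹) * (1, pA) = (1, pA) * (trA.word sW * a * (trA.word sW)⁻¹)) ∧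
    (∀ a : Mdl, a * (1, pA) = (1, pA) * a →
      ((trA.word sW)⁻¹ * a * trA.word sW) * (1, pA) = (1, pA) * ((trA.word sW)⁻¹ * a * trA.word sW)) ∧
    (Finset.univ.filter fun a : Mdl => a * (1, pA) = (1, pA) * a).card = 8 ∧
    (Finset.univ.filter fun m : Mdl => ∀ a : Mdl, a * (1, pA) = (1, pA) * a →
      (m * a * m⁻¹) * (1, pA) = (1, pA) * (m * a * m⁻¹)).card = 24 ∧
    (Finset.univ.filter fun a : Mdl => a * a = 1 ∧ a ≠ 1).card = 31 := by
  refine ⟨?_, ?_, ?_, ?_, ?_, ?_, ?_, ?_⟩ <;> decide +kernel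

theorem small_centralizer : ∀ m : Mdl, m ^ 15 = 1 → m ≠ 1 →
    (Finset.univ.filter fun n : Mdl => n * m = m * n ∧ n ^ 4 = 1).card ≤ 2 := by
  decide +kernel

theorem five_cent_s : ∀ m : Mdl, m ^ 5 = 1 → m * trA.word sW = trA.word sW * m → m = 1 := by
  decide +kernel

end CfsgLib.Recog.J1Unique
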