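import Cfsg.Agent.Lib.Recog.J1Unique.Model
import Cfsg.Agent.Lib.ThreeTrans.CosetIndex.Core

/-!
Owner: helper29. The relations holding in a group with the local data of `J₁`.
-/

set_option autoImplicit false
set_option maxRecDepth 100000

namespace CfsgLib.Recog.J1Unique

open CfsgLib.Recog.J1Order

/-- A marking of a group: a copy of the centraliser and an element of order seven acting on the Sylow `2`-subgroup. -/
structure Setup (G : Type*) [Group G] where
  T : Triple
  good : T.Good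
  φ : Mdl →* G
  φ_inj : Function.Injective φ
  range_eq : φ.range = Subgroup.centralizer ({φ mt} : Set G)
  x : G
  x7 : x ^ 7 = 1
  xt : x * φ (T.lett 0) * x⁻¹ = φ (T.lett 1)
  xs : φ (T.word sW) * x * (φ (T.word sW))⁻¹ = x ^ 2

namespace Setup

variable {G : Type*} [Group G] (D : Setup G)

/-- The five involutions. -/
def a : ℕ → G
  | 0 => D.φ (D.T.lett 0)
  | 1 => D.φ (D.T.lett 1)
  | 2 => D.φ (D.T.lett 2)
  | 3 => D.φ (D.T.lett 3)
  | 4 => D.x * D.φ (D.T.lett 3) * D.x⁻¹
  | _ => 1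

theorem prod_word (w : List ℕ) (h : ∀ i ∈ w, i < 4) : (w.map D.a).prod = D.φ (D.T.word w) := by
  rw [Triple.word, map_list_prod, List.map_map]
  congr 1
  refine List.map_congr_left fun i hi => ?_
  have := h i hi
  interval_cases i <;> rfl

theorem model_rel {w : List ℕ} (hw : w ∈ centRels) : (w.map D.a).prod = 1 := by
  rw [D.prod_word w ((by decide : ∀ v ∈ centRels, ∀ i ∈ v, i < 4) w hw), D.good.rels w hw, map_one]

theorem sq_low (i : ℕ) (hi : i < 4) : D.a i * D.a i = 1 := by
  have h := D.model_rel (w := [i, i]) (by interval_cases i <;> decide)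
  simpa using h

theorem a_sq : ∀ i, D.a i * D.a i = 1 := by
  intro i
  rcases lt_or_ge i 4 with hi | hi
  · exact D.sq_low i hi
  · rcases eq_or_lt_of_le hi with rfl | hi
    · show D.x * D.φ (D.T.lett 3) * D.x⁻¹ * (D.x * D.φ (D.T.lett 3) * D.x⁻¹) = 1
      have h := D.sq_low 3 (by norm_num)
      calc _ = D.x * (D.a 3 * D.a 3) * D.x⁻¹ := by show _ = D.x * (D.φ _ * D.φ _) * D.x⁻¹; group
        _ = 1 := by rw [h]; group
    · match i, hi with
      | n + 5, _ => exact one_mul 1

theorem a_inv (i : ℕ) : (D.a i)⁻¹ = D.a i := inv_eq_of_mul_eq_one_right (D.a_sq i)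

/-- The conjugation of a word by `x`. -/
def sub : ℕ → List ℕ
  | 0 => [1]
  | 1 => [2]
  | 2 => [0, 1]
  | 3 => [4]
  | _ => []

theorem x_t : D.x * D.a 0 * D.x⁻¹ = D.a 1 := D.xt

theorem x_p : D.x * D.a 1 * D.x⁻¹ = D.a 2 := by
  have hs := D.xs
  set s := D.φ (D.T.word sW) with hsd
  have hst : s⁻¹ * D.a 0 * s = D.a 0 := by
    have : D.a 0 * s = s * D.a 0 := by
      show D.φ mt * _ = _ * D.φ mt
      rw [hsd, ← map_mul, ← map_mul, central_mt]
    rw [mul_assoc, this, ← mul_assoc, inv_mul_cancel, one_mul]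
  have hsp : s * D.a 1 * s⁻¹ = D.a 2 := by
    show s * D.φ _ * s⁻¹ = D.φ _
    rw [hsd, ← map_inv, ← map_mul, ← map_mul, D.good.s_p]
  calc D.x * D.a 1 * D.x⁻¹ = D.x ^ 2 * D.a 0 * (D.x ^ 2)⁻¹ := by rw [← D.x_t]; simp only [pow_two]; group
    _ = s * D.x * (s⁻¹ * D.a 0 * s) * D.x⁻¹ * s⁻¹ := by rw [← hs]; group
    _ = s * (D.x * D.a 0 * D.x⁻¹) * s⁻¹ := by rw [hst]; group
    _ = D.a 2 := by rw [D.x_t, hsp]

theorem x_q : D.x * D.a 2 * D.x⁻¹ = D.a 0 * D.a 1 := by
  have hs := D.xs
  set s := D.φ (D.T.word sW) with hsd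
  have hst : s⁻¹ * D.a 0 * s = D.a 0 := by
    have : D.a 0 * s = s * D.a 0 := by
      show D.φ mt * _ = _ * D.φ mt
      rw [hsd, ← map_mul, ← map_mul, central_mt]
    rw [mul_assoc, this, ← mul_assoc, inv_mul_cancel, one_mul]
  have hsq : s * D.a 2 * s⁻¹ = D.a 1 * D.a 2 := by
    show s * D.φ _ * s⁻¹ = D.φ _ * D.φ _
    rw [hsd, ← map_inv, ← map_mul, ← map_mul, ← map_mul, D.good.s_q]
  have h2 : D.x ^ 2 * D.a 0 * (D.x ^ 2)⁻¹ = D.a 2 := by rw [← D.x_p, ← D.x_t]; simp only [pow_two]; group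
  have h4 : D.x ^ 4 * D.a 0 * (D.x ^ 4)⁻¹ = D.a 1 * D.a 2 := by
    rw [← hsq, ← h2]
    calc D.x ^ 4 * D.a 0 * (D.x ^ 4)⁻¹ = (D.x ^ 2) ^ 2 * D.a 0 * ((D.x ^ 2) ^ 2)⁻¹ := by rw [← pow_mul]
      _ = (s * D.x * s⁻¹) ^ 2 * D.a 0 * ((s * D.x * s⁻¹) ^ 2)⁻¹ := by rw [hs]
      _ = s * D.x ^ 2 * (s⁻¹ * D.a 0 * s) * (D.x ^ 2)⁻¹ * s⁻¹ := by simp only [pow_two]; group
      _ = _ := by rw [hst]; group
  have h5 : D.x * (D.a 0 * D.a 1) * D.x⁻¹ = D.a 1 * D.a 2 := by
    calc _ = (D.x * D.a 0 * D.x⁻¹) * (D.x * D.a 1 * D.x⁻¹) := by group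
      _ = _ := by rw [D.x_t, D.x_p]
  refine mul_left_cancel (a := D.x) (mul_right_cancel (b := D.x⁻¹) ?_)
  rw [h5, ← h4]
  calc D.x * (D.x * D.a 2 * D.x⁻¹) * D.x⁻¹ = D.x ^ 2 * D.a 2 * (D.x ^ 2)⁻¹ := by simp only [pow_two]; group
    _ = _ := by rw [← h2]; group

theorem conj_word : ∀ w : List ℕ, (∀ i ∈ w, i < 4) →
    ((w.flatMap sub).map D.a).prod = D.x * (w.map D.a).prod * D.x⁻¹
  | [], _ => by simp
  | i :: w, h => by
    have hi := h i (List.mem_cons_self ..)
    rw [List.flatMap_cons, List.map_append, List.prod_append, conj_word w fun j hj => h j (List.mem_cons_of_mem _ hj),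
      List.map_cons, List.prod_cons]
    have hh : ((sub i).map D.a).prod = D.x * D.a i * D.x⁻¹ := by
      interval_cases i
      · simpa [sub] using D.x_t.symm
      · simpa [sub] using D.x_p.symm
      · simpa [sub] using D.x_q.symm
      · show D.a 4 * 1 = _; rw [mul_one]; rfl
    rw [hh]; group

/-- The word of the element of order seven. -/
def xW : List ℕ := [3, 1, 3, 2, 3, 4, 1, 0, 4, 2, 4]

theorem prod_rev (w : List ℕ) : (w.reverse.map D.a).prod = ((w.map D.a).prod)⁻¹ :=
  CfsgLib.ThreeTrans.CosetIndex.prod_reverse_eq_inv D.a D.a_sq w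

theorem prod_xW : (xW.map D.a).prod = D.x := by
  rw [show xW = sW ++ (sW.flatMap sub).reverse from by decide, List.map_append, List.prod_append, D.prod_rev,
    D.conj_word sW (by decide), D.prod_word sW (by decide)]
  have hs := D.xs
  calc D.φ (D.T.word sW) * (D.x * D.φ (D.T.word sW) * D.x⁻¹)⁻¹
      = (D.φ (D.T.word sW) * D.x * (D.φ (D.T.word sW))⁻¹) * D.x⁻¹ := by group
    _ = D.x := by rw [hs]; group

/-- The relators other than the commutator. -/
def baseRels : List (List ℕ) :=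
  centRels ++ [[4, 4]] ++
    [[0, 3, 0, 3], (List.replicate 5 [1, 3]).flatten, (List.replicate 5 [2, 3]).flatten,
      (List.replicate 3 [1, 2, 3]).flatten].map (fun w => w.flatMap sub) ++
    [xW ++ [0] ++ xW.reverse ++ [1], xW ++ [1] ++ xW.reverse ++ [2], xW ++ [2] ++ xW.reverse ++ [1, 0],
      xW ++ [3] ++ xW.reverse ++ [4], (List.replicate 7 xW).flatten]

theorem base_rel {w : List ℕ} (hw : w ∈ baseRels) : (w.map D.a).prod = 1 := by
  simp only [baseRels, List.mem_append] at hw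
  rcases hw with ((hw | hw) | hw) | hw
  · exact D.model_rel hw
  · obtain rfl := List.mem_singleton.1 hw
    simpa using D.a_sq 4
  · obtain ⟨v, hv, rfl⟩ := List.mem_map.1 hw
    have hvc : v ∈ centRels ∧ ∀ i ∈ v, i < 4 :=
      (by decide : ∀ u ∈ [[0, 3, 0, 3], (List.replicate 5 [1, 3]).flatten, (List.replicate 5 [2, 3]).flatten,
        (List.replicate 3 [1, 2, 3]).flatten], u ∈ centRels ∧ ∀ i ∈ u, i < 4) v hv
    rw [D.conj_word v hvc.2, D.model_rel hvc.1, mul_one, mul_inv_cancel]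
  · simp only [List.mem_cons, List.not_mem_nil, or_false] at hw
    rcases hw with rfl | rfl | rfl | rfl | rfl
    · simp only [List.map_append, List.prod_append, D.prod_rev, D.prod_xW, List.map_cons, List.map_nil,
        List.prod_cons, List.prod_nil, mul_one]
      rw [D.x_t, D.a_sq]
    · simp only [List.map_append, List.prod_append, D.prod_rev, D.prod_xW, List.map_cons, List.map_nil,
        List.prod_cons, List.prod_nil, mul_one]
      rw [D.x_p, D.a_sq]
    · simp only [List.map_append, List.prod_append, D.prod_rev, D.prod_xW, List.map_cons, List.map_nil,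
        List.prod_cons, List.prod_nil, mul_one]
      rw [D.x_q, mul_assoc, ← mul_assoc (D.a 1) (D.a 1), D.a_sq, one_mul, D.a_sq]
    · simp only [List.map_append, List.prod_append, D.prod_rev, D.prod_xW, List.map_cons, List.map_nil,
        List.prod_cons, List.prod_nil, mul_one]
      exact D.a_sq 4
    · simp only [List.map_flatten, List.prod_flatten, List.map_replicate, List.prod_replicate, D.prod_xW]
      exact D.x7

/-- The commutator of the element of order three with a word. -/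
def commRel (y : List ℕ) : List ℕ := sW ++ y ++ sW.reverse ++ y.reverse

theorem comm_rel {y : List ℕ} (h : Commute (D.φ (D.T.word sW)) (y.map D.a).prod) :
    ((commRel y).map D.a).prod = 1 := by
  rw [commRel, List.map_append, List.map_append, List.map_append, List.prod_append, List.prod_append,
    List.prod_append, D.prod_rev, D.prod_rev, D.prod_word sW (by decide), h.eq]
  group

theorem a_ge {i : ℕ} (hi : 5 ≤ i) : D.a i = 1 := by
  match i, hi with
  | n + 5, _ => rfl

theorem t_sq : D.φ mt * D.φ mt = 1 := by rw [← map_mul, mt_order.1, map_one]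

end Setup

end CfsgLib.Recog.J1Unique
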